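import Mathlib

/-!
Endomorphisms behaving like a free module of a cyclic `p`-group, and invariant pairings on them.
-/

set_option autoImplicit false
set_option linter.style.haveILetI false
set_option linter.unusedSectionVars false

namespace Cfsg.Lib.JAb

open Finset

section Sum

variable {R Q : Type*} [Ring R] [Group Q] [Finite Q]

/-- A relative trace preimage of `1` when a cyclic group permutes `Q \ {1}` freely. -/
theorem exists_trace_eq_one (ψ : Q →* R) (c : Rˣ) (σ : Equiv.Perm Q) (n : ℕ) (hn : 0 < n)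
    (hσn : σ ^ n = 1) (hσ1 : σ 1 = 1) (hfree : ∀ q : Q, q ≠ 1 → ∀ j < n, (σ ^ j) q = q → j = 0)
    (hcomm : ∀ q, (c : R) * ψ q = ψ (σ q) * c)
    [Fintype Q] (hsum : ∑ q, ψ q = 0) :
    ∃ f : R, ∑ j ∈ range n, (c : R) ^ j * f * ↑(c⁻¹ ^ j) = 1 := by
  classical
  have hper : ∀ (j : ℕ) (q : Q), (σ ^ (j % n)) q = (σ ^ j) q := by
    intro j q
    conv_rhs => rw [← Nat.mod_add_div j n, pow_add, pow_mul, hσn, one_pow, mul_one]
  have hfix : ∀ j : ℕ, (σ ^ j) (1 : Q) = 1 := by
    intro j
    induction j with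
    | zero => rfl
    | succ j ih => rw [pow_succ, Equiv.Perm.mul_apply, hσ1, ih]
  set e := Fintype.equivFin Q
  let O : Finset Q := univ.filter fun q => q ≠ 1 ∧ ∀ j : ℕ, e q ≤ e ((σ ^ j) q)
  refine ⟨-∑ q ∈ O, ψ q, ?_⟩
  have hconj : ∀ (j : ℕ) (q : Q), (c : R) ^ j * ψ q * ↑(c⁻¹ ^ j) = ψ ((σ ^ j) q) := by
    intro j q
    induction j generalizing q with
    | zero => simp
    | succ j ih =>
      rw [pow_succ, pow_succ' c⁻¹, Units.val_mul, mul_assoc ((c : R) ^ j) c, hcomm,
        pow_succ, Equiv.Perm.mul_apply, ← ih (σ q)]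
      simp only [mul_assoc]
      rw [← mul_assoc (c : R) ↑c⁻¹, Units.mul_inv, one_mul]
  have h1 : ∑ j ∈ range n, (c : R) ^ j * (-∑ q ∈ O, ψ q) * ↑(c⁻¹ ^ j) =
      -∑ j ∈ range n, ∑ q ∈ O, ψ ((σ ^ j) q) := by
    simp only [mul_neg, neg_mul, mul_sum, sum_mul, hconj, sum_neg_distrib]
  have h2 : ∑ j ∈ range n, ∑ q ∈ O, ψ ((σ ^ j) q) = ∑ q ∈ univ.erase 1, ψ q := by
    rw [← sum_product']
    refine sum_bij (fun p _ => (σ ^ p.1) p.2) (fun p hp => ?_) ?_ (fun q hq => ?_)
      (fun _ _ => rfl)
    · simp only [mem_product, O, mem_filter] at hp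
      refine mem_erase.2 ⟨fun h => hp.2.2.1 ?_, mem_univ _⟩
      have := congrArg (σ ^ p.1).symm (h.trans (hfix p.1).symm)
      simpa using this
    · rintro ⟨j, q⟩ hp ⟨l, r⟩ hr h
      simp only [mem_product, O, mem_filter, mem_range] at hp hr
      simp only at h
      have h3 : (σ ^ (j + (n - l))) q = r := by
        rw [Nat.add_comm, pow_add, Equiv.Perm.mul_apply, h, ← Equiv.Perm.mul_apply, ← pow_add,
          Nat.sub_add_cancel hr.1.le, hσn, Equiv.Perm.one_apply]
      have h4 : (σ ^ (l + (n - j))) r = q := by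
        rw [Nat.add_comm, pow_add, Equiv.Perm.mul_apply, ← h, ← Equiv.Perm.mul_apply, ← pow_add,
          Nat.sub_add_cancel hp.1.le, hσn, Equiv.Perm.one_apply]
      have hqr : q = r := e.injective (le_antisymm (h3 ▸ hp.2.2.2 _) (h4 ▸ hr.2.2.2 _))
      subst hqr
      have h5 := hfree q hp.2.2.1 _ (Nat.mod_lt _ hn) ((hper (j + (n - l)) q).trans h3)
      rcases Nat.lt_or_ge (j + (n - l)) n with hlt | hge
      · rw [Nat.mod_eq_of_lt hlt] at h5; omega
      · rw [Nat.mod_eq_sub_mod hge, Nat.mod_eq_of_lt (by omega)] at h5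
        have : j = l := by omega
        rw [this]
    · obtain ⟨hq1, -⟩ := mem_erase.1 hq
      obtain ⟨j, hj, hmin⟩ := (range n).exists_min_image (fun j => e ((σ ^ j) q))
        ⟨0, mem_range.2 hn⟩
      refine ⟨((n - j) % n, (σ ^ j) q), ?_, ?_⟩
      · simp only [mem_product, O, mem_filter, mem_range]
        refine ⟨Nat.mod_lt _ hn, mem_univ _, fun h => hq1 ?_, fun i => ?_⟩
        · have := congrArg (σ ^ j).symm (h.trans (hfix j).symm)
          simpa using this
        · rw [← Equiv.Perm.mul_apply, ← pow_add, ← hper (i + j)]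
          exact hmin _ (mem_range.2 (Nat.mod_lt _ hn))
      · simp only
        rw [hper, ← Equiv.Perm.mul_apply, ← pow_add, Nat.sub_add_cancel (mem_range.1 hj).le, hσn,
          Equiv.Perm.one_apply]
  rw [h1, h2, sum_erase_eq_sub (mem_univ 1), hsum, map_one, zero_sub, neg_neg]

end Sum

variable {V : Type*} [AddCommGroup V] [Finite V]

/-- The endomorphism `x` is one free block system of length `n`. -/
structure IsFreeNil (x : AddMonoid.End V) (n : ℕ) : Prop where
  pos : 0 < n
  nil : x ^ n = 0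
  ker : ∀ v : V, x v = 0 → ∃ w, (x ^ (n - 1)) w = v

theorem end_mul_apply {M : Type*} [AddCommGroup M] (f g : AddMonoid.End M) (v : M) :
    (f * g) v = f (g v) := rfl

theorem end_sub_apply {M : Type*} [AddCommGroup M] (f g : AddMonoid.End M) (v : M) :
    (f - g) v = f v - g v := rfl

theorem end_sum_apply {M ι : Type*} [AddCommGroup M] (s : Finset ι) (f : ι → AddMonoid.End M)
    (v : M) : (∑ i ∈ s, f i) v = ∑ i ∈ s, f i v := by
  classical
  induction s using Finset.induction with
  | empty => rfl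
  | insert a s ha ih => rw [sum_insert ha, sum_insert ha, ← ih]; rfl

theorem end_pow_succ_apply {M : Type*} [AddCommGroup M] (x : AddMonoid.End M) (m : ℕ) (v : M) :
    (x ^ (m + 1)) v = x ((x ^ m) v) := by rw [pow_succ']; rfl

theorem end_pow_add_apply {M : Type*} [AddCommGroup M] (x : AddMonoid.End M) (i j : ℕ) (v : M) :
    (x ^ (i + j)) v = (x ^ i) ((x ^ j) v) := by rw [pow_add]; rfl

theorem charP_end [Nontrivial V] {p : ℕ} [Fact p.Prime] (hp : ∀ v : V, p • v = 0) :
    CharP (AddMonoid.End V) p := by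
  haveI : Nontrivial (AddMonoid.End V) := by
    obtain ⟨v, hv⟩ := exists_ne (0 : V)
    exact ⟨⟨1, 0, fun h => hv (congrArg (fun t : AddMonoid.End V => t v) h)⟩⟩
  refine (CharP.charP_iff_prime_eq_zero (Fact.out : p.Prime)).2 ?_
  exact AddMonoidHom.ext fun v => hp v

theorem IsFreeNil.card_range {x : AddMonoid.End V} {n : ℕ} (h : IsFreeNil x n) :
    ∀ m ≤ n, Nat.card (AddMonoidHom.range (x ^ (n - m) : AddMonoid.End V)) =
      Nat.card (AddMonoidHom.ker (x : V →+ V)) ^ m := by
  intro m
  induction m with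
  | zero =>
    intro _
    rw [Nat.sub_zero, pow_zero, h.nil, AddSubgroup.card_eq_one, AddSubgroup.eq_bot_iff_forall]
    rintro _ ⟨v, rfl⟩
    rfl
  | succ m ih =>
    intro hm
    set i := n - (m + 1) with hi
    set R := AddMonoidHom.range (x ^ i : AddMonoid.End V)
    let g : R →+ V := (x : V →+ V).comp R.subtype
    have hR : g.range = AddMonoidHom.range (x ^ (n - m) : AddMonoid.End V) := by
      rw [show n - m = i + 1 by omega]
      ext v
      constructor
      · rintro ⟨⟨_, w, rfl⟩, rfl⟩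
        exact ⟨w, end_pow_succ_apply x i w⟩
      · rintro ⟨w, rfl⟩
        exact ⟨⟨_, w, rfl⟩, (end_pow_succ_apply x i w).symm⟩
    have hK : Nat.card g.ker = Nat.card (AddMonoidHom.ker (x : V →+ V)) := by
      refine Nat.card_congr ⟨fun u => ⟨u.1.1, u.2⟩, fun u => ⟨⟨u.1, ?_⟩, u.2⟩,
        fun u => rfl, fun u => rfl⟩
      obtain ⟨w, hw⟩ := h.ker u.1 u.2
      refine ⟨(x ^ (n - 1 - i)) w, ?_⟩
      show (x ^ i) ((x ^ (n - 1 - i)) w) = u.1
      rw [← end_pow_add_apply, show i + (n - 1 - i) = n - 1 by omega, hw]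
    have hc : Nat.card R = Nat.card g.range * Nat.card g.ker := by
      rw [AddSubgroup.card_eq_card_quotient_mul_card_addSubgroup g.ker,
        Nat.card_congr (QuotientAddGroup.quotientKerEquivRange g).toEquiv]
    rw [hc, hR, hK, ih (by omega), pow_succ]

/-- `x ^ n = 0` and the kernel description from a relative trace preimage of `1`. -/
theorem isFreeNil_of_trace {p k : ℕ} [Fact p.Prime] (hp : ∀ v : V, p • v = 0)
    (c : (AddMonoid.End V)ˣ) (hc : (c : AddMonoid.End V) ^ p ^ k = 1) {f : AddMonoid.End V}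
    (hf : ∑ j ∈ range (p ^ k), (c : AddMonoid.End V) ^ j * f * ↑(c⁻¹ ^ j) = 1) :
    IsFreeNil ((c : AddMonoid.End V) - 1) (p ^ k) := by
  rcases subsingleton_or_nontrivial V with hV | hV
  · exact ⟨pow_pos (Fact.out : p.Prime).pos _,
      AddMonoidHom.ext fun v => Subsingleton.elim _ _, fun v _ => ⟨0, Subsingleton.elim _ _⟩⟩
  haveI := charP_end hp
  have hcomm : Commute (c : AddMonoid.End V) 1 := Commute.one_right _
  have hnil : ((c : AddMonoid.End V) - 1) ^ p ^ k = 0 := by
    rw [sub_pow_char_pow_of_commute _ _ hcomm, hc, one_pow, sub_self]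
  refine ⟨pow_pos (Fact.out : p.Prime).pos _, hnil, fun v hv => ⟨f v, ?_⟩⟩
  have hcv : (c : AddMonoid.End V) v = v := sub_eq_zero.1 hv
  have hiv : ∀ j : ℕ, (↑(c⁻¹ ^ j) : AddMonoid.End V) v = v := by
    intro j
    induction j with
    | zero => rfl
    | succ j ih =>
      rw [pow_succ, Units.val_mul]
      show (↑(c⁻¹ ^ j) : AddMonoid.End V) ((↑c⁻¹ : AddMonoid.End V) v) = v
      conv_lhs => rw [← hcv]
      rw [show (↑c⁻¹ : AddMonoid.End V) ((c : AddMonoid.End V) v) = v from
        congrArg (fun t : AddMonoid.End V => t v) c.inv_mul]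
      exact ih
  have hsum : ∑ j ∈ range (p ^ k), (c : AddMonoid.End V) ^ j =
      ((c : AddMonoid.End V) - 1) ^ (p ^ k - 1) := by
    have h1 := sub_pow_char_pow (R := Polynomial (ZMod p)) (p := p) (n := k)
      Polynomial.X 1
    rw [one_pow] at h1
    have h2 : (Polynomial.X - 1 : Polynomial (ZMod p)) *
        (∑ j ∈ range (p ^ k), Polynomial.X ^ j) =
        (Polynomial.X - 1) * (Polynomial.X - 1) ^ (p ^ k - 1) := by
      rw [mul_geom_sum, ← pow_succ', Nat.sub_add_cancel (pow_pos (Fact.out : p.Prime).pos k), h1]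
    have h3 := mul_left_cancel₀ (by
      simpa using Polynomial.X_sub_C_ne_zero (1 : ZMod p)) h2
    have h4 := congrArg
      (Polynomial.eval₂RingHom' (ZMod.castHom (dvd_refl p) (AddMonoid.End V))
        (c : AddMonoid.End V) (fun a => by
          rw [← ZMod.natCast_zmod_val a, map_natCast]; exact Nat.cast_commute _ _)) h3
    rw [map_pow, map_sum, map_sub, map_one] at h4
    simpa [Polynomial.eval₂RingHom'] using h4
  have hv1 := congrArg (fun t : AddMonoid.End V => t v) hf
  simp only [end_sum_apply] at hv1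
  rw [← hsum]
  rw [end_sum_apply]
  refine Eq.trans (sum_congr rfl fun j _ => ?_) hv1
  show ((c : AddMonoid.End V) ^ j) (f v) = ((c : AddMonoid.End V) ^ j) (f ((↑(c⁻¹ ^ j) : AddMonoid.End V) v))
  rw [hiv]

/-- If the square of `x` agrees with some `(1 + x) ^ i - 1` modulo the kernel, `x ^ 3` vanishes. -/
theorem cube_eq_zero {p n : ℕ} [Fact p.Prime] (hp5 : 5 ≤ p) (hp : ∀ v : V, p • v = 0)
    {x : AddMonoid.End V} (hn : x ^ n = 0) (v : V) (i : ℕ)
    (h : x (x (x v) - (((1 + x) ^ i) v - v)) = 0) : (x ^ 3) v = 0 := by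
  rcases subsingleton_or_nontrivial V with hV | hV
  · exact Subsingleton.elim _ _
  haveI := charP_end hp
  have hE : x ^ 3 - x * ((1 + x) ^ i - 1) = x * (x * x) - x * ((1 + x) ^ i - 1) := by
    simp only [pow_succ, pow_zero, one_mul, mul_assoc]
  have h0 : (x ^ 3 - x * ((1 + x) ^ i - 1) : AddMonoid.End V) v = 0 := by
    rw [hE, end_sub_apply, end_mul_apply, end_mul_apply, end_mul_apply, end_sub_apply, ← map_sub]
    exact h
  have hgeom : (1 + x) ^ i - 1 = x * ∑ l ∈ range i, (1 + x) ^ l := by
    conv_rhs => arg 1; rw [show x = 1 + x - 1 by abel]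
    rw [mul_geom_sum]
  by_cases hi : p ∣ i
  · obtain ⟨l, rfl⟩ := hi
    have h1 : (1 + x) ^ (p * l) - 1 = x ^ p * ∑ a ∈ range l, (1 + x ^ p) ^ a := by
      rw [pow_mul, add_pow_char_of_commute _ (Commute.one_left x), one_pow]
      conv_rhs => arg 1; rw [show x ^ p = 1 + x ^ p - 1 by abel]
      rw [mul_geom_sum]
    set w := x ^ (p - 2) * ∑ a ∈ range l, (1 + x ^ p) ^ a
    have hw : x ^ 3 - x * ((1 + x) ^ (p * l) - 1) = (1 - w) * x ^ 3 := by
      have hc : Commute (x ^ 3) w := by
        refine (Commute.pow_pow (Commute.refl x) _ _).mul_right (Commute.sum_right _ _ _ fun a _ => ?_)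
        exact ((Commute.one_right _).add_right (Commute.pow_pow (Commute.refl x) _ _)).pow_right _
      rw [sub_mul, one_mul, ← hc.eq, h1, ← mul_assoc, ← pow_succ',
        show p + 1 = 3 + (p - 2) by omega, pow_add, mul_assoc]
    have hnil : IsNilpotent w := by
      refine Commute.isNilpotent_mul_right ?_ (IsNilpotent.pow_of_pos ⟨n, hn⟩ (by omega))
      exact Commute.sum_right _ _ _ fun a _ =>
        ((Commute.one_right _).add_right (Commute.pow_pow (Commute.refl x) _ _)).pow_right _
    obtain ⟨u, hu⟩ := hnil.isUnit_one_sub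
    rw [hw, ← hu] at h0
    have := congrArg (↑u⁻¹ : AddMonoid.End V) h0
    rw [map_zero] at this
    rw [← this, ← show (↑u⁻¹ * (↑u * x ^ 3) : AddMonoid.End V) v =
      (↑u⁻¹ : AddMonoid.End V) ((↑u * x ^ 3 : AddMonoid.End V) v) from rfl, Units.inv_mul_cancel_left]
  · set r := ∑ l ∈ range i, ∑ a ∈ range l, (1 + x) ^ a
    have hr : ∑ l ∈ range i, (1 + x) ^ l = (i : AddMonoid.End V) + x * r := by
      have e : ∀ l ∈ range i, (1 + x) ^ l = 1 + x * ∑ a ∈ range l, (1 + x) ^ a := by
        intro l _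
        conv_rhs => arg 2; arg 1; rw [show x = 1 + x - 1 by abel]
        rw [mul_geom_sum]; abel
      rw [sum_congr rfl e, sum_add_distrib, mul_sum]
      simp
    have hxr : Commute x r := Commute.sum_right _ _ _ fun l _ => Commute.sum_right _ _ _ fun a _ =>
      ((Commute.one_right _).add_right (Commute.refl x)).pow_right _
    set u := x * (1 - r)
    have hw : x ^ 3 - x * ((1 + x) ^ i - 1) = (u - (i : AddMonoid.End V)) * x ^ 2 := by
      have hc : Commute (x ^ 2) (u - (i : AddMonoid.End V)) :=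
        ((Commute.pow_left (Commute.refl x) 2).mul_right
          ((Commute.one_right _).sub_right (hxr.pow_left 2))).sub_right (Nat.cast_commute _ _).symm
      rw [← hc.eq, hgeom, hr]
      simp only [u, mul_sub, mul_add, mul_one, ← mul_assoc, pow_succ, pow_zero, one_mul]
      abel
    have hunit : IsUnit (u - (i : AddMonoid.End V)) := by
      obtain ⟨i', hi'⟩ : ∃ i' : ℕ, (i : AddMonoid.End V) * i' = 1 := by
        have hne : (i : ZMod p) ≠ 0 := fun h => hi ((ZMod.natCast_eq_zero_iff i p).1 h)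
        refine ⟨(i : ZMod p)⁻¹.val, ?_⟩
        rw [← map_natCast (ZMod.castHom (dvd_refl p) (AddMonoid.End V)) i,
          ← map_natCast (ZMod.castHom (dvd_refl p) (AddMonoid.End V)) _, ZMod.natCast_zmod_val,
          ← map_mul, mul_inv_cancel₀ hne, map_one]
      have hiu : IsUnit (i : AddMonoid.End V) :=
        ⟨⟨_, _, hi', by rw [(Nat.cast_commute i' (i : AddMonoid.End V)).eq]; exact hi'⟩, rfl⟩
      have hu : IsNilpotent u :=
        Commute.isNilpotent_mul_right ((Commute.one_right _).sub_right hxr) ⟨n, hn⟩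
      exact (IsNilpotent.isUnit_add_right_of_commute hu hiu.neg
        ((Nat.cast_commute i u).symm.neg_right) : IsUnit (u + -(i : AddMonoid.End V))) |> fun h => by
          rwa [sub_eq_add_neg]
    obtain ⟨w, hw'⟩ := hunit
    rw [hw, ← hw'] at h0
    have h2 := congrArg (↑w⁻¹ : AddMonoid.End V) h0
    rw [map_zero, ← show (↑w⁻¹ * (↑w * x ^ 2) : AddMonoid.End V) v =
      (↑w⁻¹ : AddMonoid.End V) ((↑w * x ^ 2 : AddMonoid.End V) v) from rfl,
      Units.inv_mul_cancel_left] at h2
    rw [end_pow_succ_apply, h2, map_zero]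

section Pairing

variable {Z : Type*} [AddCommGroup Z] (β : V →+ V →+ Z) (x : AddMonoid.End V) (y : AddMonoid.End Z)

/-- Powers of `x` of large total degree are orthogonal. -/
theorem pairing_pow_eq_zero {n d : ℕ} (hn : x ^ n = 0)
    (hinv : ∀ u v, β (u + x u) (v + x v) = β u v + y (β u v))
    (hsurj : Function.Surjective fun v => v + x v) (hd : ∀ u v, (y ^ d) (β u v) = 0) :
    ∀ i j m : ℕ, n + d ≤ i + j + m + 1 → ∀ u v, (y ^ m) (β ((x ^ i) u) ((x ^ j) v)) = 0 := by
  have step : ∀ u w, β (x u) (w + x w) = y (β u w) - β u (x w) := by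
    intro u w
    have := hinv u w
    rw [map_add β, AddMonoidHom.add_apply, map_add (β u)] at this
    calc β (x u) (w + x w) = (β u w + β u (x w) + β (x u) (w + x w)) - β u w - β u (x w) := by abel
      _ = y (β u w) - β u (x w) := by rw [this]; abel
  intro i
  induction i with
  | zero =>
    intro j m h u v
    rcases le_or_gt d m with hm | hm
    · rw [show m = m - d + d by omega, end_pow_add_apply, hd, map_zero]
    · rw [show j = j - n + n by omega, end_pow_add_apply, hn]
      simp
  | succ i ih =>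
    intro j m h u v
    obtain ⟨v', rfl⟩ := hsurj v
    have e : (x ^ j) (x v') = x ((x ^ j) v') := by
      rw [← end_pow_succ_apply, pow_succ]; rfl
    have e2 : ∀ z, (y ^ m) (y z) = (y ^ (m + 1)) z := fun z => by rw [pow_succ]; rfl
    rw [end_pow_succ_apply, map_add (x ^ j), e, step, map_sub, e2, ← end_pow_succ_apply,
      ih j (m + 1) (by omega), ih (j + 1) m (by omega), sub_zero]

/-- With nilpotency index an odd number, a nonzero skew pairing forces more than one block. -/
theorem card_ker_ne_prime {p n : ℕ} [Fact p.Prime] (hfree : IsFreeNil x n) (hodd : Odd n)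
    (hp2 : ∀ z : Z, z + z = 0 → z = 0)
    (hinv : ∀ u v, β (u + x u) (v + x v) = β u v)
    (hskew : ∀ u v, β v u = -β u v) (hsurj : Function.Surjective fun v => v + x v)
    (hirr : ∀ U : AddSubgroup V, (∀ u ∈ U, x u ∈ U) → (∀ v, (∀ w, β w v = 0) → v ∈ U) →
      (∀ u ∈ U, ∀ w, β w u = 0) → U = ⊥ ∨ U = ⊤)
    (hβ : ∃ u v, β u v ≠ 0) :
    Nat.card (AddMonoidHom.ker (x : V →+ V)) ≠ p := by
  intro hB
  set T := x ^ (n - 1)
  have hxx : ∀ w : V, x (T w) = 0 := fun w => by
    rw [← end_pow_succ_apply, Nat.sub_add_cancel hfree.pos, hfree.nil]; rfl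
  have step : ∀ u w, β (x u) (w + x w) = -β u (x w) := by
    intro u w
    have := hinv u w
    rw [map_add β, AddMonoidHom.add_apply, map_add (β u)] at this
    calc β (x u) (w + x w) = (β u w + β u (x w) + β (x u) (w + x w)) - β u w - β u (x w) := by abel
      _ = -β u (x w) := by rw [this]; abel
  have hkill : ∀ u, β u (T u) = 0 := by
    intro u
    have key : ∀ m ≤ n - 1, ∀ a b,
        β ((x ^ (n - 1 - m)) a) ((x ^ m) b) = (-1 : ℤ) ^ (n - 1 - m) • β a (T b) := by
      intro m hm
      induction' hd : n - 1 - m with d ih generalizing m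
      · intro a b
        rw [show m = n - 1 by omega]
        simp [T]
      · intro a b
        obtain ⟨b', hb'⟩ := hsurj b
        simp only at hb'
        subst hb'
        have e : (x ^ m) (x b') = x ((x ^ m) b') := by
          rw [← end_pow_succ_apply, pow_succ]; rfl
        rw [end_pow_succ_apply, map_add (x ^ m), e, step, ← end_pow_succ_apply,
          ih (m + 1) (by omega) (by omega) a b', pow_succ', neg_one_mul, neg_smul,
          map_add T, ← show x (T b') = T (x b') by
            rw [← end_pow_succ_apply, pow_succ]; rfl, hxx, add_zero]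
    have h := key 0 (Nat.zero_le _) u u
    obtain ⟨r, hr⟩ := hodd
    have he : ((-1 : ℤ) ^ (n - 1)) = 1 := Even.neg_one_pow ⟨r, by omega⟩
    rw [Nat.sub_zero, pow_zero, he, one_smul] at h
    refine hp2 _ ?_
    have h' : β (T u) u = β u (T u) := h
    rw [hskew] at h'
    nth_rewrite 1 [← h']
    exact neg_add_cancel _
  -- the fixed line lies in the radical
  have hmem : ∀ w, x w = 0 → ∀ u, β u w = 0 := by
    intro w hw u
    obtain ⟨u₀, rfl⟩ := hfree.ker w hw
    by_cases h0 : T u₀ = 0
    · rw [h0, map_zero]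
    have hprime : Nat.Prime (Nat.card (AddMonoidHom.ker (x : V →+ V))) := hB ▸ Fact.out
    have hgen : T u ∈ AddSubgroup.zmultiples (T u₀) := by
      have h1 : AddSubgroup.zmultiples (T u₀) ≤ AddMonoidHom.ker (x : V →+ V) := by
        rw [AddSubgroup.zmultiples_le]; exact hw
      have h2 : AddSubgroup.zmultiples (T u₀) = AddMonoidHom.ker (x : V →+ V) := by
        refine AddSubgroup.eq_of_le_of_card_ge h1 ?_
        rcases hprime.eq_one_or_self_of_dvd _ (AddSubgroup.card_dvd_of_le h1) with h | h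
        · exact absurd (AddSubgroup.zmultiples_eq_bot.1 (AddSubgroup.card_eq_one.1 h)) h0
        · exact h.ge
      rw [h2]; exact hxx u
    obtain ⟨z, hz⟩ := AddSubgroup.mem_zmultiples_iff.1 hgen
    have h3 : x ^ n = 0 := hfree.nil
    have hker : T (u - z • u₀) = 0 := by rw [map_sub, map_zsmul, ← hz, sub_self]
    -- `ker T` is the image of `x`
    have h4 : ∃ u', x u' = u - z • u₀ := by
      have hle : AddMonoidHom.range (x : V →+ V) ≤ AddMonoidHom.ker (T : V →+ V) := by
        rintro _ ⟨a, rfl⟩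
        show T (x a) = 0
        rw [← hxx a, ← end_pow_succ_apply, pow_succ]; rfl
      have hc : Nat.card (AddMonoidHom.ker (T : V →+ V)) * Nat.card (AddMonoidHom.ker (x : V →+ V)) =
          Nat.card V := by
        rw [mul_comm, AddSubgroup.card_eq_card_quotient_mul_card_addSubgroup
          (AddMonoidHom.ker (T : V →+ V)), Nat.card_congr
          (QuotientAddGroup.quotientKerEquivRange (T : V →+ V)).toEquiv]
        congr 1
        refine Nat.card_congr (Equiv.subtypeEquivRight fun a => ⟨?_, ?_⟩)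
        · exact fun ha => hfree.ker a ha
        · rintro ⟨b, rfl⟩; exact hxx b
      have hc' : Nat.card (AddMonoidHom.range (x : V →+ V)) *
          Nat.card (AddMonoidHom.ker (x : V →+ V)) = Nat.card V := by
        rw [AddSubgroup.card_eq_card_quotient_mul_card_addSubgroup
          (AddMonoidHom.ker (x : V →+ V)), Nat.card_congr
          (QuotientAddGroup.quotientKerEquivRange (x : V →+ V)).toEquiv]
      have heq := AddSubgroup.eq_of_le_of_card_ge hle
        (Nat.le_of_mul_le_mul_right (le_of_eq (hc.trans hc'.symm)) Nat.card_pos)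
      have : u - z • u₀ ∈ AddMonoidHom.range (x : V →+ V) := heq ▸ hker
      exact this
    obtain ⟨u', hu'⟩ := h4
    obtain ⟨u'', hu''⟩ : ∃ a, a + x a = T u₀ := hsurj _
    rw [show u = x u' + z • u₀ by rw [hu']; abel, map_add, AddMonoidHom.add_apply, map_zsmul,
      AddMonoidHom.smul_apply, hkill, smul_zero, add_zero, ← hu'', step,
      show x u'' = 0 from ?_, map_zero, neg_zero]
    obtain ⟨a, ha⟩ := hfree.ker (T u₀) hw
    have : x (u'' + x u'') = 0 := by rw [hu'']; exact hw
    rw [map_add] at this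
    have : ∀ d, ∀ m, m + d = n → 1 ≤ m → (x ^ m) u'' = 0 := by
      intro d
      induction d with
      | zero => intro m hm _; rw [show m = n by omega, hfree.nil]; rfl
      | succ d ih =>
        intro m hm h1
        have h2 := congrArg (x ^ (m - 1)) ‹x u'' + x (x u'') = 0›
        rw [map_add, map_zero, ← show (x ^ (m - 1 + 1)) u'' = (x ^ (m - 1)) (x u'') by
          rw [pow_succ]; rfl, ← show (x ^ (m - 1 + 2)) u'' = (x ^ (m - 1)) (x (x u'')) by
          rw [pow_succ, pow_succ]; rfl, show m - 1 + 1 = m by omega,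
          show m - 1 + 2 = m + 1 by omega, ih (m + 1) (by omega) (by omega), add_zero] at h2
        exact h2
    simpa using this (n - 1) 1 (by have := hfree.pos; omega) le_rfl
  let Rad : AddSubgroup V :=
    { carrier := {v | ∀ w, β w v = 0}
      zero_mem' := fun w => map_zero _
      add_mem' := fun ha hb w => by rw [map_add, ha w, hb w, add_zero]
      neg_mem' := fun ha w => by rw [map_neg, ha w, neg_zero] }
  rcases hirr Rad (fun u hu w => by
      obtain ⟨a, rfl⟩ : ∃ a, a + x a = w := hsurj w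
      have h := hinv a u
      rw [hu a, map_add (β (a + x a)), hu (a + x a), zero_add] at h
      exact h) (fun v hv => hv) (fun u hu => hu) with h | h
  · have hne : AddMonoidHom.ker (x : V →+ V) ≠ ⊥ := fun h' => by
      rw [h', AddSubgroup.card_bot] at hB
      exact (Fact.out : p.Prime).one_lt.ne hB
    exact hne (le_bot_iff.1 (h ▸ fun w hw => hmem w hw))
  · obtain ⟨u, v, huv⟩ := hβ
    exact huv ((h ▸ AddSubgroup.mem_top v : v ∈ Rad) u)

end Pairing

end Cfsg.Lib.JAb
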