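import Cfsg.Agent.PLocal.JAbelian.Replace
import Cfsg.Agent.PLocal.JAbelian.Module
import Cfsg.Agent.PGroups.Basic
import Cfsg.Agent.PGroups.Commutators
import Cfsg.Agent.Transfer.Basic

/-!
An abelian subgroup of largest order does not act fixed-point-freely on an abelian `p'`-section
over a self-centralising normal `p`-subgroup when `p ≥ 5`.
-/

set_option autoImplicit false
set_option linter.style.haveILetI false
set_option linter.unusedSectionVars false
set_option maxHeartbeats 1000000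

namespace Cfsg.Lib.JAb

open Subgroup
open scoped commutatorElement

variable {G : Type*} [Group G]

/-- The hypotheses. -/
structure Frob (p k : ℕ) (W A R : Subgroup G) (c : G) : Prop where
  five : 5 ≤ p
  kpos : 1 ≤ k
  pW : IsPGroup p W
  nW : W.Normal
  cW : centralizer (W : Set G) ≤ W
  max : IsMaxAb (W ⊔ A) A
  cA : c ∈ A
  Agen : ∀ a ∈ A, ∃ j : ℕ, (c ^ j)⁻¹ * a ∈ W
  corder : ∀ j : ℕ, c ^ j ∈ W ↔ p ^ k ∣ j
  nR : R.Normal
  WR : W ≤ R
  Rab : ⁅R, R⁆ ≤ W
  Rcop : ∀ r ∈ R, ∃ m : ℕ, m.Coprime p ∧ r ^ m ∈ W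
  Rne : ¬ R ≤ W
  gen : R ⊔ A = ⊤
  fpf : ∀ r ∈ R, ∀ j : ℕ, ⁅c ^ j, r⁆ ∈ W → p ^ k ∣ j ∨ r ∈ W

theorem dl_comm_pow {x s : G} (h : x * dl x s = dl x s * x) :
    ∀ m : ℕ, x ^ m * s * (x ^ m)⁻¹ = s * (dl x s) ^ m := by
  intro m
  induction m with
  | zero => simp
  | succ m ih =>
    have e : x * s * x⁻¹ = s * dl x s := by simp only [dl]; group
    have h' : x * (dl x s) ^ m * x⁻¹ = (dl x s) ^ m := by
      rw [(show Commute x (dl x s) from h).pow_right m |>.eq, mul_inv_cancel_right]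
    calc x ^ (m + 1) * s * (x ^ (m + 1))⁻¹ = x * (x ^ m * s * (x ^ m)⁻¹) * x⁻¹ := by
          rw [pow_succ']; group
      _ = (x * s * x⁻¹) * (x * (dl x s) ^ m * x⁻¹) := by rw [ih]; group
      _ = _ := by rw [e, h', mul_assoc, ← pow_succ']

/-- A `p'`-element centralising `[x, s]` centralises `s` when this is a `p`-element. -/
theorem dl_eq_one_of_coprime {p : ℕ} {x s : G} (hx : (orderOf x).Coprime p)
    (h : x * dl x s = dl x s * x) (hp : ∃ j : ℕ, dl x s ^ p ^ j = 1) : dl x s = 1 := by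
  obtain ⟨j, hj⟩ := hp
  have h1 := dl_comm_pow h (orderOf x)
  rw [pow_orderOf_eq_one, one_mul, inv_one, mul_one, left_eq_mul] at h1
  exact orderOf_eq_one_iff.1 (Nat.eq_one_of_dvd_coprimes (hx.pow_right j)
    (orderOf_dvd_of_pow_eq_one h1) (orderOf_dvd_of_pow_eq_one hj))

theorem mul_le_pow_of_lt {p : ℕ} [Fact p.Prime] {Z : Type*} [AddCommGroup Z] [Finite Z]
    (hexp : ∀ z : Z, p • z = 0) {H K : AddSubgroup Z} (h : K < H) :
    Nat.card K * p ≤ Nat.card H := by
  obtain ⟨d, hd⟩ := AddSubgroup.card_dvd_of_le h.le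
  have hK : 0 < Nat.card K := Nat.card_pos
  have hd1 : d ≠ 1 := fun h1 => h.ne (AddSubgroup.eq_of_le_of_card_ge h.le (by rw [hd, h1, mul_one]))
  have hPd : d ∣ Nat.card H := ⟨Nat.card K, by rw [hd, mul_comm]⟩
  have hPH : IsPGroup p (Multiplicative H) := fun z => ⟨1, by
    rw [pow_one]
    exact Multiplicative.toAdd.injective (Subtype.ext (hexp _))⟩
  obtain ⟨m, hm⟩ := IsPGroup.iff_card.1 hPH
  rw [Nat.card_congr Multiplicative.toAdd] at hm
  obtain ⟨i, -, rfl⟩ := (Nat.dvd_prime_pow (Fact.out : p.Prime)).1 (hm ▸ hPd)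
  rw [hd]
  exact Nat.mul_le_mul_left _ (Nat.le_self_pow (fun h0 => hd1 (by rw [h0, pow_zero])) p)

variable [Finite G] {p k : ℕ} [hp : Fact p.Prime] {W A R : Subgroup G} {c : G}

theorem Frob.cn (h : Frob p k W A R c) : c ^ (p ^ k) ∈ W := (h.corder _).2 dvd_rfl

theorem Frob.exists_split (h : Frob p k W A R c) {a : G} (ha : a ∈ A) :
    ∃ j < p ^ k, ∃ e ∈ A ⊓ W, a = c ^ j * e := by
  obtain ⟨j, hj⟩ := h.Agen a ha
  have hn : 0 < p ^ k := pow_pos hp.out.pos k
  have hq : c ^ (p ^ k * (j / p ^ k)) ∈ W := (h.corder _).2 (dvd_mul_right _ _)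
  refine ⟨j % p ^ k, Nat.mod_lt _ hn,
    c ^ (p ^ k * (j / p ^ k)) * ((c ^ j)⁻¹ * a),
    ⟨A.mul_mem (A.pow_mem h.cA _) (A.mul_mem (A.inv_mem (A.pow_mem h.cA _)) ha),
      W.mul_mem hq hj⟩, ?_⟩
  rw [← mul_assoc, ← pow_add, Nat.mod_add_div, mul_inv_cancel_left]

theorem Frob.card_A_le (h : Frob p k W A R c) :
    Nat.card A ≤ Nat.card ↥(A ⊓ W) * p ^ k := by
  have hsurj : Function.Surjective (fun t : Fin (p ^ k) × ↥(A ⊓ W) =>
      (⟨c ^ (t.1 : ℕ) * (t.2 : G), A.mul_mem (A.pow_mem h.cA _) t.2.2.1⟩ : A)) := by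
    rintro ⟨a, ha⟩
    obtain ⟨j, hj, e, he, rfl⟩ := h.exists_split ha
    exact ⟨(⟨j, hj⟩, ⟨e, he⟩), rfl⟩
  have := Nat.card_le_card_of_surjective _ hsurj
  rwa [Nat.card_prod, Nat.card_fin, mul_comm] at this

theorem not_frob : ¬ Frob p k W A R c := by
  intro h
  classical
  haveI := h.nW
  haveI := h.nR
  have hp2 : p ≠ 2 := by have := h.five; omega
  have hPW : ∀ g ∈ W, ∃ j : ℕ, g ^ p ^ j = 1 := fun g hg => by
    obtain ⟨j, hj⟩ := h.pW ⟨g, hg⟩
    exact ⟨j, congrArg Subtype.val hj⟩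
  set E := A ⊓ W with hEdef
  -- the `p'`-elements of `R`
  set K := closure {x : G | x ∈ R ∧ (orderOf x).Coprime p} with hKdef
  have hKR : K ≤ R := (closure_le _).2 fun x hx => hx.1
  haveI hKn : K.Normal := by
    refine Subgroup.normalizer_eq_top_iff.1 (top_le_iff.1 fun g _ => ?_)
    have key : ∀ g : G, ∀ x ∈ K, g * x * g⁻¹ ∈ K := by
      intro g x hx
      have : (MulAut.conj g).toMonoidHom x ∈ K := by
        have hle : K ≤ K.comap (MulAut.conj g).toMonoidHom := by
          rw [hKdef, closure_le]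
          rintro y ⟨hyR, hy⟩
          exact subset_closure ⟨h.nR.conj_mem y hyR g, by
            show (orderOf (MulAut.conj g y)).Coprime p
            rwa [MulEquiv.orderOf_eq]⟩
        exact hle hx
      exact this
    exact mem_normalizer_iff.2 fun x => ⟨key g x, fun hx => by
      simpa [mul_assoc] using key g⁻¹ _ hx⟩
  have hRK : ∀ r ∈ R, ∃ w ∈ W, ∃ x ∈ K, r = w * x := by
    intro r hr
    obtain ⟨a, b, ha, hb, hab, ⟨j, hj⟩, hcop⟩ := Cfsg.Lib.Transfer.exists_pPart p r
    have haR : a ∈ R := zpowers_le.2 hr ha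
    obtain ⟨m, hm, hmW⟩ := h.Rcop a haR
    refine ⟨a, ?_, b, subset_closure ⟨zpowers_le.2 hr hb, hcop⟩, hab.symm⟩
    obtain ⟨u, hu⟩ := exists_pow_eq_self_of_coprime (show m.Coprime (orderOf a) from hj ▸ hm.pow_right j)
    rw [← hu]
    exact W.pow_mem hmW u
  have hKgen : ∀ X : Subgroup G, (∀ x ∈ R, (orderOf x).Coprime p → x ∈ X) → K ≤ X := fun X hX =>
    (closure_le _).2 fun x hx => hX x hx.1 hx.2
  -- a minimal normal subgroup moved by `K`
  obtain ⟨S, ⟨hSn, hSW, hSK⟩, hSmin⟩ :=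
    (Set.toFinite {S : Subgroup G | S.Normal ∧ S ≤ W ∧ ¬ K ≤ centralizer (S : Set G)}).exists_minimal
      ⟨W, h.nW, le_rfl, fun hle => h.Rne (fun r hr => by
        obtain ⟨w, hw, x, hx, rfl⟩ := hRK r hr
        exact W.mul_mem hw (h.cW (hle hx)))⟩
  haveI := hSn
  have hSp : IsPGroup p S := h.pW.to_le hSW
  have hsub : ∀ T : Subgroup G, T.Normal → T ≤ S → T ≠ S → K ≤ centralizer (T : Set G) := by
    intro T hTn hTS hne
    by_contra hK
    exact hne (le_antisymm hTS (hSmin ⟨hTn, hTS.trans hSW, hK⟩ hTS))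
  have hSKeq : ⁅S, K⁆ = S := by
    by_contra hne
    have hle := hsub ⁅S, K⁆ inferInstance (commutator_le_left S K) hne
    refine hSK (hKgen _ fun x hxR hx => mem_centralizer_iff.2 fun s hs => ?_)
    have hxK : x ∈ K := subset_closure ⟨hxR, hx⟩
    have hd : dl x s ∈ ⁅S, K⁆ := by
      have e : dl x s = ⁅s⁻¹, x⁆ := by simp only [dl, commutatorElement_def]; group
      rw [e]
      exact commutator_mem_commutator (S.inv_mem hs) hxK
    have h1 := dl_eq_one_of_coprime hx (mem_centralizer_iff.1 (hle hxK) _ hd).symm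
      (hPW _ (hSW (commutator_le_left S K hd)))
    exact (dl_eq_one_iff.1 h1).symm
  have hSne : S ≠ ⊥ := fun hb => hSK (by
    rw [hb]; exact fun x _ => mem_centralizer_iff.2 fun y hy => by
      rw [mem_bot.1 hy, one_mul, mul_one])
  -- a maximal normal subgroup below `S`
  set F := (frattini ↥S).map S.subtype with hFdef
  haveI hFn : F.Normal := by
    rw [hFdef]; infer_instance
  obtain ⟨Y, ⟨hYn, hFY, hYS⟩, hYmax⟩ :=
    (Set.toFinite {Y : Subgroup G | Y.Normal ∧ F ≤ Y ∧ Y < S}).exists_maximal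
      ⟨F, hFn, le_rfl, lt_of_le_of_ne (map_subtype_le _) fun he => by
        haveI : Nontrivial S := (nontrivial_iff_ne_bot _).2 hSne
        have : frattini ↥S = ⊤ := by
          refine map_injective S.subtype_injective ?_
          rw [← hFdef, he, ← MonoidHom.range_eq_map, range_subtype]
        obtain ⟨M, hM, -⟩ := (eq_top_or_exists_le_coatom (⊥ : Subgroup ↥S)).resolve_left bot_ne_top
        exact hM.1 (top_le_iff.1 (this ▸ frattini_le_coatom hM))⟩
  haveI := hYn
  have hYW : Y ≤ W := hYS.le.trans hSW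
  have hKY : K ≤ centralizer (Y : Set G) := hsub Y hYn hYS.le hYS.ne
  have hcommY : ∀ s ∈ S, ∀ t ∈ S, ⁅s, t⁆ ∈ Y := fun s hs t ht => hFY
    ⟨⁅(⟨s, hs⟩ : S), ⟨t, ht⟩⁆, Cfsg.Lib.PGroups.commutator_le_frattini hSp
      (commutator_mem_commutator (mem_top _) (mem_top _)), rfl⟩
  have hpowY : ∀ s ∈ S, s ^ p ∈ Y := fun s hs => hFY
    ⟨(⟨s, hs⟩ : S) ^ p, Cfsg.Lib.PGroups.pow_mem_frattini hSp _, rfl⟩
  have hYcen : Y ≤ centralizer (S : Set G) := by
    rw [← commutator_eq_bot_iff_le_centralizer, commutator_comm, ← hSKeq]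
    refine commutator_commutator_eq_bot_of_rotate ?_ ?_
    · rw [commutator_eq_bot_iff_le_centralizer.2 hKY, commutator_bot_left]
    · refine le_bot_iff.1 ((commutator_mono (commutator_le_left Y S) le_rfl).trans ?_)
      rw [commutator_comm, commutator_eq_bot_iff_le_centralizer.2 hKY]
  have hcen : ∀ y ∈ Y, ∀ s ∈ S, y * s = s * y := fun y hy s hs =>
    (mem_centralizer_iff.1 (hYcen hy) s hs).symm
  haveI hYc : IsMulCommutative Y := ⟨⟨fun a b => Subtype.ext (hcen a a.2 b (hYS.le b.2))⟩⟩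
  have hct : ∀ s ∈ S, ∀ t ∈ S, ⁅s, t⁆ ^ p = 1 := by
    intro s hs t ht
    have e1 : s * t ^ p * s⁻¹ = t ^ p := by
      rw [← hcen _ (hpowY t ht) s hs, mul_inv_cancel_right]
    have e2 : s * t * s⁻¹ = ⁅s, t⁆ * t := by rw [commutatorElement_def]; group
    rw [← conj_pow, e2, (show Commute ⁅s, t⁆ t from hcen _ (hcommY s hs t ht) t ht).mul_pow,
      mul_eq_right] at e1
    exact e1
  have hpmul : ∀ a ∈ S, ∀ b ∈ S, (a * b) ^ p = a ^ p * b ^ p := by
    intro a ha b hb
    obtain ⟨l, hl⟩ := Cfsg.Lib.PGroups.dvd_choose_two hp.out hp2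
    rw [Cfsg.Lib.PGroups.mul_pow_of_commute_commutator (hcen _ (hcommY b hb a ha) a ha)
      (hcen _ (hcommY b hb a ha) b hb), hl, pow_mul, hct b hb a ha, one_pow, mul_one]
  have hexp : ∀ s ∈ S, s ^ p = 1 := by
    intro s hs
    rw [← hSKeq] at hs
    suffices h1 : ⁅S, K⁆ ≤
        ({ carrier := {s | s ∈ S ∧ s ^ p = 1}
           one_mem' := ⟨S.one_mem, one_pow p⟩
           mul_mem' := fun {a b} ha hb => ⟨S.mul_mem ha.1 hb.1, by
             rw [hpmul a ha.1 b hb.1, ha.2, hb.2, one_mul]⟩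
           inv_mem' := fun {a} ha => ⟨S.inv_mem ha.1, by rw [inv_pow, ha.2, inv_one]⟩ } :
          Subgroup G) from (h1 hs).2
    refine commutator_le.2 fun a ha x hx => ⟨commutator_le_left S K
      (commutator_mem_commutator ha hx), ?_⟩
    have hx' : x * a⁻¹ * x⁻¹ ∈ S := hSn.conj_mem _ (S.inv_mem ha) x
    have e : (a⁻¹) ^ p = x * (a⁻¹) ^ p * x⁻¹ := by
      rw [← mem_centralizer_iff.1 (hKY hx) _ (hpowY _ (S.inv_mem ha)), mul_inv_cancel_right]
    rw [commutatorElement_def, show a * x * a⁻¹ * x⁻¹ = a * (x * a⁻¹ * x⁻¹) by group,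
      hpmul a ha _ hx', conj_pow, ← e, inv_pow, mul_inv_cancel]
  -- `W` is trivial on `S / Y`
  have hWS : ∀ w ∈ W, ∀ s ∈ S, dl w s ∈ Y := by
    have hne : ⁅W, S⁆ ⊔ Y ≠ S := by
      intro he
      haveI := h.pW.isNilpotent
      obtain ⟨m, hm⟩ := (Subgroup.isNilpotent_iff_lowerCentralSeries W).mp inferInstance
      have key : ∀ i, S ≤ W.lowerCentralSeries i ⊔ Y := by
        intro i
        induction i with
        | zero => exact hSW.trans le_sup_left
        | succ i ih =>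
          rw [← he]
          refine sup_le ?_ le_sup_right
          refine commutator_le.2 fun w hw s hs => ?_
          obtain ⟨u, hu, y, hy, rfl⟩ := mem_sup_of_normal_right.1 (ih hs)
          rw [Cfsg.Lib.PGroups.mul_right_commutator]
          refine mul_mem (mem_sup_left ?_) (mem_sup_right (hYn.conj_mem _ ?_ u))
          · rw [Subgroup.lowerCentralSeries_succ, commutator_comm]
            exact commutator_mem_commutator hw hu
          · rw [commutatorElement_def]
            exact Y.mul_mem (hYn.conj_mem y hy w) (Y.inv_mem hy)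
      have := key m
      rw [hm, bot_sup_eq] at this
      exact hYS.not_ge this
    intro w hw s hs
    have hle : ⁅W, S⁆ ⊔ Y ≤ Y := hYmax ⟨inferInstance, hFY.trans le_sup_right,
      lt_of_le_of_ne (sup_le (commutator_le_right W S) hYS.le) hne⟩ le_sup_right
    refine hle (mem_sup_left ?_)
    rw [show dl w s = s⁻¹ * ⁅w, s⁆ * s by simp only [dl, commutatorElement_def]; group]
    have := (inferInstance : (⁅W, S⁆).Normal).conj_mem _ (commutator_mem_commutator hw hs) s⁻¹
    rwa [inv_inv] at this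
  have hmaxY : ∀ X : Subgroup G, X.Normal → Y ≤ X → X ≤ S → X = Y ∨ X = S := fun X hX h1 h2 => by
    by_cases he : X = S
    · exact Or.inr he
    · exact Or.inl (le_antisymm (hYmax ⟨hX, hFY.trans h1, lt_of_le_of_ne h2 he⟩ h1) h1)
  -- fixed points of `K` on `S / Y`
  have hVK : ∀ s ∈ S, (∀ x ∈ K, dl x s ∈ Y) → s ∈ Y := by
    intro s hs hfix
    let X : Subgroup G :=
      { carrier := {s | s ∈ S ∧ ∀ x ∈ K, dl x s ∈ Y}
        one_mem' := ⟨S.one_mem, fun x _ => by simp [dl, Y.one_mem]⟩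
        mul_mem' := fun {a b} ha hb => ⟨S.mul_mem ha.1 hb.1, fun x hx => by
          have e : dl x (a * b) = b⁻¹ * dl x a * b * dl x b := by simp only [dl]; group
          rw [e]
          refine Y.mul_mem ?_ (hb.2 x hx)
          simpa using hYn.conj_mem _ (ha.2 x hx) b⁻¹⟩
        inv_mem' := fun {a} ha => ⟨S.inv_mem ha.1, fun x hx => by
          have e : dl x a⁻¹ = a * (dl x a)⁻¹ * a⁻¹ := by simp only [dl]; group
          rw [e]
          exact hYn.conj_mem _ (Y.inv_mem (ha.2 x hx)) a⟩ }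
    have hXn : X.Normal := ⟨fun a ha g => ⟨hSn.conj_mem a ha.1 g, fun x hx => by
      have e : dl x (g * a * g⁻¹) = g * dl (g⁻¹ * x * g) a * g⁻¹ := by simp only [dl]; group
      rw [e]
      refine hYn.conj_mem _ (ha.2 _ ?_) g
      simpa using hKn.conj_mem x hx g⁻¹⟩⟩
    rcases hmaxY X hXn (fun y hy => ⟨hYS.le hy, fun x hx =>
      Y.mul_mem (Y.inv_mem hy) (hYn.conj_mem y hy x)⟩) (fun a ha => ha.1) with he | he
    · exact he ▸ (show s ∈ X from ⟨hs, hfix⟩)
    · exfalso
      refine hYS.not_ge (hSKeq.ge.trans (commutator_le.2 fun a ha x hx => ?_))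
      have ha' : a⁻¹ ∈ X := by rw [he]; exact S.inv_mem ha
      rw [show ⁅a, x⁆ = dl x a⁻¹ by simp only [dl, commutatorElement_def]; group]
      exact ha'.2 x hx
  -- the module `S / Y`
  set Y₀ := Y.subgroupOf S with hY₀
  haveI : IsMulCommutative (↥S ⧸ Y₀) := by
    refine Subgroup.Normal.quotient_commutative_iff_commutator_le.mpr (commutator_le.2 ?_)
    intro a _ b _
    exact mem_subgroupOf.2 (hcommY a a.2 b b.2)
  letI : CommGroup (↥S ⧸ Y₀) :=
    { (inferInstance : Group (↥S ⧸ Y₀)) with mul_comm := mul_comm' }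
  let V := Additive (↥S ⧸ Y₀)
  haveI : Finite V := Finite.of_equiv (↥S ⧸ Y₀) Additive.ofMul
  let π : ∀ s ∈ S, V := fun s hs => Additive.ofMul (QuotientGroup.mk ⟨s, hs⟩)
  have πsurj : ∀ v : V, ∃ s, ∃ hs : s ∈ S, π s hs = v := fun v =>
    ⟨(v.toMul.out : ↥S), (v.toMul.out).2, congrArg Additive.ofMul (QuotientGroup.out_eq' _)⟩
  have πzero : ∀ {s : G} (hs : s ∈ S), π s hs = 0 ↔ s ∈ Y := fun hs => by
    show (QuotientGroup.mk _ : ↥S ⧸ Y₀) = 1 ↔ _
    rw [QuotientGroup.eq_one_iff, mem_subgroupOf]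
  have πeq : ∀ {s t : G} (hs : s ∈ S) (ht : t ∈ S), π s hs = π t ht ↔ s⁻¹ * t ∈ Y := fun hs ht => by
    show (QuotientGroup.mk _ : ↥S ⧸ Y₀) = QuotientGroup.mk _ ↔ _
    rw [QuotientGroup.eq, mem_subgroupOf]
    rfl
  have πmul : ∀ {s t : G} (hs : s ∈ S) (ht : t ∈ S), π (s * t) (S.mul_mem hs ht) = π s hs + π t ht :=
    fun hs ht => rfl
  have hexpV : ∀ v : V, p • v = 0 := fun v => by
    obtain ⟨s, hs, rfl⟩ := πsurj v
    show Additive.ofMul ((QuotientGroup.mk ⟨s, hs⟩ : ↥S ⧸ Y₀) ^ p) = 0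
    rw [← QuotientGroup.mk_pow, show (⟨s, hs⟩ : S) ^ p = 1 from Subtype.ext (hexp s hs)]
    rfl
  let Φ : G →* AddMonoid.End V :=
    { toFun := fun g => MonoidHom.toAdditive (QuotientGroup.map Y₀ Y₀
        (MulAut.conjNormal (H := S) g).toMonoidHom (fun y hy => mem_subgroupOf.2 (by
          simpa [MulAut.conjNormal_apply] using hYn.conj_mem _ (mem_subgroupOf.1 hy) g)))
      map_one' := DFunLike.ext _ _ fun v => by
        obtain ⟨s, hs, rfl⟩ := πsurj v
        exact congrArg Additive.ofMul (congrArg QuotientGroup.mk (Subtype.ext (by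
          show (1 : G) * s * (1 : G)⁻¹ = s
          group)))
      map_mul' := fun a b => DFunLike.ext _ _ fun v => by
        obtain ⟨s, hs, rfl⟩ := πsurj v
        exact congrArg Additive.ofMul (congrArg QuotientGroup.mk (Subtype.ext (by
          show a * b * s * (a * b)⁻¹ = a * (b * s * b⁻¹) * a⁻¹
          group))) }
  have hΦ : ∀ g {s : G} (hs : s ∈ S),
      Φ g (π s hs) = π (g * s * g⁻¹) (hSn.conj_mem s hs g) := fun g s hs => rfl
  have hdlS : ∀ g {s : G}, s ∈ S → dl g s ∈ S := fun g s hs =>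
    S.mul_mem (S.inv_mem hs) (hSn.conj_mem s hs g)
  have hΦ1 : ∀ g {s : G} (hs : s ∈ S), π (dl g s) (hdlS g hs) = Φ g (π s hs) - π s hs :=
    fun g s hs => by
      rw [hΦ, eq_sub_iff_add_eq, add_comm, ← πmul hs (hdlS g hs)]
      congr 1
      simp only [dl]; group
  have hΦW : ∀ w ∈ W, Φ w = 1 := fun w hw => DFunLike.ext _ _ fun v => by
    obtain ⟨s, hs, rfl⟩ := πsurj v
    show Φ w (π s hs) = π s hs
    exact sub_eq_zero.1 (by rw [← hΦ1]; exact (πzero _).2 (hWS w hw s hs))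
  -- the group `R / W` acting on `V`
  set Q := ↥R ⧸ W.subgroupOf R
  let ψ : Q →* AddMonoid.End V := QuotientGroup.lift (W.subgroupOf R) (Φ.comp R.subtype)
    (fun w hw => hΦW _ (mem_subgroupOf.1 hw))
  haveI : IsMulCommutative Q := by
    refine Subgroup.Normal.quotient_commutative_iff_commutator_le.mpr (commutator_le.2 ?_)
    intro a _ b _
    exact mem_subgroupOf.2 (h.Rab (commutator_mem_commutator a.2 b.2))
  letI : Fintype Q := Fintype.ofFinite Q
  have hsum : ∑ q, ψ q = 0 := DFunLike.ext _ _ fun v => by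
    rw [end_sum_apply]
    show _ = (0 : V)
    obtain ⟨s, hs, hv⟩ := πsurj (∑ q, ψ q v)
    have hfix : ∀ r : Q, ψ r (∑ q, ψ q v) = ∑ q, ψ q v := fun r => by
      rw [map_sum]
      refine Fintype.sum_equiv (Equiv.mulLeft r) _ _ fun q => ?_
      rw [Equiv.coe_mulLeft, map_mul]; rfl
    rw [← hv] at hfix ⊢
    refine (πzero hs).2 (hVK s hs fun x hx => ?_)
    have h1 : Φ x (π s hs) = π s hs := hfix (QuotientGroup.mk (⟨x, hKR hx⟩ : R))
    rw [← πzero (hdlS x hs), hΦ1, h1, sub_self]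
    all_goals exact hs
  let cu : (AddMonoid.End V)ˣ := Units.map Φ (toUnits c)
  have hcu : ∀ j : ℕ, ((cu : AddMonoid.End V) ^ j) = Φ (c ^ j) := fun j => by rw [map_pow]; rfl
  let σe : Q ≃* Q := QuotientGroup.congr _ _ (MulAut.conjNormal (H := R) c) (by
    refine le_antisymm ?_ fun x hx => ?_
    · rintro _ ⟨x, hx, rfl⟩
      exact mem_subgroupOf.2 (by
        simpa [MulAut.conjNormal_apply] using h.nW.conj_mem _ (mem_subgroupOf.1 hx) c)
    · refine ⟨(MulAut.conjNormal (H := R) c).symm x, mem_subgroupOf.2 ?_,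
        MulEquiv.apply_symm_apply _ x⟩
      simpa [MulAut.conjNormal_symm_apply] using h.nW.conj_mem _ (mem_subgroupOf.1 hx) c⁻¹)
  let σ : Equiv.Perm Q := σe.toEquiv
  have hσ : ∀ (j : ℕ) (r : R), (σ ^ j) (QuotientGroup.mk r) =
      QuotientGroup.mk (MulAut.conjNormal (H := R) (c ^ j) r) := by
    intro j
    induction j with
    | zero => intro r; simp
    | succ j ih =>
      intro r
      rw [pow_succ', Equiv.Perm.mul_apply, ih, pow_succ', map_mul]
      rfl
  obtain ⟨f, hf⟩ := exists_trace_eq_one ψ cu σ (p ^ k) (pow_pos hp.out.pos k)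
    (Equiv.ext fun q => by
      obtain ⟨r, rfl⟩ := QuotientGroup.mk_surjective q
      rw [hσ, Equiv.Perm.one_apply, QuotientGroup.eq, mem_subgroupOf]
      rw [Subgroup.coe_mul, InvMemClass.coe_inv, MulAut.conjNormal_apply,
        show (c ^ p ^ k * (r : G) * (c ^ p ^ k)⁻¹)⁻¹ * r =
          c ^ p ^ k * ((r : G)⁻¹ * (c ^ p ^ k)⁻¹ * r) by group]
      refine W.mul_mem h.cn ?_
      simpa using h.nW.conj_mem _ (W.inv_mem h.cn) (r : G)⁻¹)
    (map_one σe)
    (fun q hq j hj hjq => by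
      obtain ⟨r, rfl⟩ := QuotientGroup.mk_surjective q
      rw [hσ, QuotientGroup.eq, mem_subgroupOf] at hjq
      have h1 : ⁅c ^ j, (r : G)⁆ ∈ W := by
        have e : ⁅c ^ j, (r : G)⁆ = (r : G) *
            ((MulAut.conjNormal (H := R) (c ^ j) r : G)⁻¹ * r)⁻¹ * (r : G)⁻¹ := by
          rw [MulAut.conjNormal_apply, commutatorElement_def]
          group
        rw [e]
        refine h.nW.conj_mem _ (W.inv_mem ?_) _
        simpa using hjq
      rcases h.fpf r r.2 j h1 with h2 | h2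
      · exact Nat.eq_zero_of_dvd_of_lt h2 hj
      · exact absurd ((QuotientGroup.eq_one_iff r).2 (mem_subgroupOf.2 h2)) hq)
    (fun q => by
      obtain ⟨r, rfl⟩ := QuotientGroup.mk_surjective q
      show Φ c * Φ r = Φ (c * r * c⁻¹) * Φ c
      rw [← map_mul, ← map_mul, inv_mul_cancel_right])
    hsum
  set n := p ^ k with hn
  have hcn1 : (cu : AddMonoid.End V) ^ n = 1 := by rw [hcu]; exact hΦW _ h.cn
  have hfree := isFreeNil_of_trace hexpV cu hcn1 hf
  set x : AddMonoid.End V := (cu : AddMonoid.End V) - 1 with hxdef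
  have h1x : ∀ j : ℕ, (1 + x) ^ j = Φ (c ^ j) := fun j => by
    rw [hxdef, add_sub_cancel, hcu]
  have hx : ∀ {s : G} (hs : s ∈ S), x (π s hs) = π (dl c s) (hdlS c hs) := fun hs =>
    (hΦ1 c hs).symm
  -- the iterates
  let τ : ℕ → G → G := fun i s => (dl c)^[i] s
  have hτS : ∀ i {s : G}, s ∈ S → τ i s ∈ S := by
    intro i
    induction i with
    | zero => exact fun hs => hs
    | succ i ih =>
      intro s hs
      show (dl c)^[i + 1] s ∈ S
      rw [Function.iterate_succ_apply']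
      exact hdlS c (ih hs)
  have hτ : ∀ i {s : G} (hs : s ∈ S), (x ^ i) (π s hs) = π (τ i s) (hτS i hs) := by
    intro i
    induction i with
    | zero => exact fun hs => rfl
    | succ i ih =>
      intro s hs
      rw [end_pow_succ_apply, ih hs, hx (hτS i hs)]
      congr 1
      exact (Function.iterate_succ_apply' (dl c) i s).symm
  set B := Nat.card (AddMonoidHom.ker (x : V →+ V)) with hBdef
  have hnpos : 5 ≤ n := h.five.trans (Nat.le_self_pow (by have := h.kpos; omega) p)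
  haveI hVnt : Nontrivial V := by
    obtain ⟨s, hs, hsY⟩ := SetLike.exists_of_lt hYS
    exact ⟨⟨π s hs, 0, fun h0 => hsY ((πzero hs).1 h0)⟩⟩
  obtain ⟨b, hb⟩ : ∃ b, B = p ^ b := by
    have hPV : IsPGroup p (Multiplicative (AddMonoidHom.ker (x : V →+ V))) := fun v => ⟨1, by
      rw [pow_one]
      exact Multiplicative.toAdd.injective (Subtype.ext (hexpV _))⟩
    obtain ⟨m, hm⟩ := IsPGroup.iff_card.1 hPV
    exact ⟨m, by rw [hBdef, ← hm, Nat.card_congr Multiplicative.toAdd]⟩
  have hbpos : 1 ≤ b := by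
    by_contra hb0
    have hV1 := hfree.card_range n le_rfl
    rw [Nat.sub_self, pow_zero, ← hBdef, hb, show b = 0 by omega, pow_zero, one_pow,
      AddSubgroup.card_eq_one, AddSubgroup.eq_bot_iff_forall] at hV1
    obtain ⟨v, hv⟩ := exists_ne (0 : V)
    exact hv (hV1 v ⟨v, rfl⟩)
  have hWA : ∀ X : Subgroup G, X ≤ W → X ≤ W ⊔ A := fun X hX => hX.trans le_sup_left
  have hAnY : A ≤ normalizer (Y : Set G) := le_normalizer_of_normal
  by_cases hcase : ∀ s ∈ S, ∀ t ∈ S, ⁅s, t⁆ = 1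
  · -- `S` abelian
    haveI : IsMulCommutative S :=
      ⟨⟨fun a b => Subtype.ext (commutatorElement_eq_one_iff_mul_comm.1 (hcase a a.2 b b.2))⟩⟩
    have hcube : ∀ v : V, (x ^ 3) v = 0 := by
      intro v
      obtain ⟨s, hs, rfl⟩ := πsurj v
      set M := closure ((dl · s) '' A) with hM
      have hMS : M ≤ S := (closure_le _).2 (by rintro _ ⟨a, -, rfl⟩; exact hdlS a hs)
      haveI : IsMulCommutative M := le_centralizer_iff_isMulCommutative.1
        (hMS.trans ((le_centralizer_iff_isMulCommutative.2 inferInstance).trans (centralizer_le hMS)))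
      have hgen : ∀ g ∈ A, dl g s ∈ M := fun g hg => subset_closure ⟨g, hg, rfl⟩
      obtain ⟨-, hex⟩ := h.max.single (hWA M (hMS.trans hSW)) hgen le_rfl
      have hm : dl c (dl c s) ∈ M := by
        have e : dl c (dl c s) = (dl c s)⁻¹ * ((dl c s)⁻¹ * dl (c * c) s) := by
          rw [dl_mul, inv_mul_cancel_left]; rfl
        rw [e]
        exact M.mul_mem (M.inv_mem (hgen c h.cA))
          (M.mul_mem (M.inv_mem (hgen c h.cA)) (hgen _ (A.mul_mem h.cA h.cA)))
      obtain ⟨g, hg, hgm⟩ := hex _ hm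
      obtain ⟨j, -, e, he, rfl⟩ := h.exists_split hg
      have hdS : (dl (c ^ j * e) s)⁻¹ * dl c (dl c s) ∈ S :=
        S.mul_mem (S.inv_mem (hdlS _ hs)) (hdlS c (hdlS c hs))
      have hxd : x (π _ hdS) = 0 := by
        rw [hx hdS, πzero]
        rw [dl_eq_one_iff.2 (h.max.apply_comm h.cA hgm)]
        exact Y.one_mem
      have hπd : π _ hdS = x (x (π s hs)) - (((1 + x) ^ j) (π s hs) - π s hs) := by
        rw [πmul (S.inv_mem (hdlS _ hs)) (hdlS c (hdlS c hs)), ← hx (hdlS c hs), ← hx hs, h1x]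
        have e1 : Φ (c ^ j * e) = Φ (c ^ j) := by rw [map_mul, hΦW e he.2, mul_one]
        rw [show π (dl (c ^ j * e) s)⁻¹ (S.inv_mem (hdlS _ hs)) =
          -π (dl (c ^ j * e) s) (hdlS _ hs) from rfl, hΦ1 _ hs, e1]
        abel
      rw [hπd] at hxd
      exact cube_eq_zero h.five hexpV hfree.nil _ j hxd
    have h3 := hfree.card_range (n - 3) (by omega)
    rw [show n - (n - 3) = 3 by omega, ← hBdef, hb, ← pow_mul] at h3
    have : Nat.card (AddMonoidHom.range (x ^ 3 : AddMonoid.End V)) = 1 := by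
      rw [AddSubgroup.card_eq_one, AddSubgroup.eq_bot_iff_forall]
      rintro _ ⟨v, rfl⟩
      exact hcube v
    rw [this] at h3
    rcases Nat.pow_eq_one.1 h3.symm with h4 | h4
    · exact hp.out.one_lt.ne' h4
    · rcases Nat.mul_eq_zero.1 h4 with h5 | h5 <;> omega
  -- the action on `Y`
  letI : CommGroup Y := { (inferInstance : Group Y) with mul_comm := mul_comm' }
  let Z := Additive Y
  haveI : Finite Z := Finite.of_equiv Y Additive.ofMul
  let ζ : ∀ d ∈ Y, Z := fun d hd => Additive.ofMul ⟨d, hd⟩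
  have ζeq : ∀ {d e : G} (hd : d ∈ Y) (he : e ∈ Y), ζ d hd = ζ e he ↔ d = e := fun hd he =>
    ⟨fun hh => congrArg (fun t : Z => ((t.toMul : Y) : G)) hh, fun hh => Subtype.ext hh⟩
  have ζzero : ∀ {d : G} (hd : d ∈ Y), ζ d hd = 0 ↔ d = 1 := fun hd => ζeq hd Y.one_mem
  have hexpZ : ∀ z : Z, p • z = 0 := fun z =>
    congrArg Additive.ofMul (Subtype.ext (hexp _ (hYS.le z.toMul.2)) : z.toMul ^ p = 1)
  let Ψ : G →* AddMonoid.End Z :=
    { toFun := fun g => MonoidHom.toAdditive (MulAut.conjNormal (H := Y) g).toMonoidHom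
      map_one' := AddMonoidHom.ext fun v => by
        show Additive.ofMul (MulAut.conjNormal 1 v.toMul) = v
        rw [map_one]; rfl
      map_mul' := fun a b => AddMonoidHom.ext fun v => by
        show Additive.ofMul (MulAut.conjNormal (a * b) v.toMul) =
          Additive.ofMul (MulAut.conjNormal a (MulAut.conjNormal b v.toMul))
        rw [map_mul]; rfl }
  have hdlY : ∀ g {d : G}, d ∈ Y → dl g d ∈ Y := fun g d hd =>
    Y.mul_mem (Y.inv_mem hd) (hYn.conj_mem d hd g)
  have hΨ : ∀ g {d : G} (hd : d ∈ Y), ζ (dl g d) (hdlY g hd) = (Ψ g - 1) (ζ d hd) := by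
    intro g d hd
    rw [end_sub_apply, eq_sub_iff_add_eq]
    show Additive.ofMul ((⟨_, hdlY g hd⟩ : Y) * ⟨d, hd⟩) =
      Additive.ofMul (MulAut.conjNormal g (⟨d, hd⟩ : Y))
    refine congrArg Additive.ofMul (Subtype.ext ?_)
    rw [Subgroup.coe_mul, MulAut.conjNormal_apply]
    show dl g d * d = g * d * g⁻¹
    rw [hcen _ (hdlY g hd) d (hYS.le hd)]
    simp only [dl]; group
  set y : AddMonoid.End Z := Ψ c - 1 with hydef
  have hdlcomm : ∀ {g g' d : G}, g * g' = g' * g → d ∈ Y → dl g (dl g' d) = dl g' (dl g d) := by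
    intro g g' d hgg hd
    rw [← ζeq (hdlY g (hdlY g' hd)) (hdlY g' (hdlY g hd)), hΨ, hΨ, hΨ, hΨ]
    have hc : (Ψ g - 1) * (Ψ g' - 1) = (Ψ g' - 1) * (Ψ g - 1) := by
      simp only [sub_mul, mul_sub, mul_one, one_mul, ← map_mul, hgg]
      abel
    exact congrArg (fun t : AddMonoid.End Z => t (ζ d hd)) hc
    all_goals first | exact hd | exact hdlY _ hd
  -- the fixed points of `E` on `Y`
  let H0 : AddSubgroup Z :=
    { carrier := {z | ∀ e ∈ E, e * ((z.toMul : Y) : G) = ((z.toMul : Y) : G) * e}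
      zero_mem' := fun e _ => by simp
      add_mem' := fun {a b} ha hb e he => by
        show e * (((a.toMul : Y) : G) * ((b.toMul : Y) : G)) = _ * e
        rw [← mul_assoc, ha e he, mul_assoc, hb e he, ← mul_assoc]
        rfl
      neg_mem' := fun {a} ha e he => by
        show e * (((a.toMul : Y) : G))⁻¹ = _ * e
        exact (show Commute e ((a.toMul : Y) : G) from ha e he).inv_right.eq }
  have hEc : ∀ e ∈ E, e * c = c * e := fun e he => h.max.apply_comm he.1 h.cA
  have hH0y : ∀ z ∈ H0, y z ∈ H0 := by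
    intro z hz e he
    obtain ⟨⟨d, hd⟩, rfl⟩ : ∃ d : Y, Additive.ofMul d = z := ⟨z.toMul, rfl⟩
    have e1 : y (Additive.ofMul (⟨d, hd⟩ : Y)) = ζ (dl c d) (hdlY c hd) := (hΨ c hd).symm
    rw [e1]
    show e * dl c d = dl c d * e
    refine dl_eq_one_iff.1 ?_
    rw [hdlcomm (hEc e he) hd, dl_eq_one_iff.2 (show e * d = d * e from hz e he)]
    simp [dl]
  have hyk : ∀ z ∈ H0, (y ^ (k + 1)) z = 0 := by
    let N : ℕ → AddSubgroup Z := fun m => H0.map (y ^ m : AddMonoid.End Z)
    have hN0 : N 0 = H0 := by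
      ext z
      exact ⟨fun ⟨w, hw, hwz⟩ => hwz ▸ hw, fun hz => ⟨z, hz, rfl⟩⟩
    have hNsucc : ∀ m, N (m + 1) = (N m).map (y : Z →+ Z) := fun m => by
      ext z
      constructor
      · rintro ⟨w, hw, rfl⟩
        exact ⟨_, ⟨w, hw, rfl⟩, (end_pow_succ_apply y m w).symm⟩
      · rintro ⟨_, ⟨w, hw, rfl⟩, rfl⟩
        exact ⟨w, hw, end_pow_succ_apply y m w⟩
    have hNle : ∀ m, N (m + 1) ≤ N m := fun m => by
      rintro _ ⟨w, hw, rfl⟩
      exact ⟨y w, hH0y w hw, by rw [pow_succ]; rfl⟩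
    have hnil : N n = ⊥ := by
      rw [AddSubgroup.eq_bot_iff_forall]
      rintro _ ⟨w, hw, rfl⟩
      rcases subsingleton_or_nontrivial Z with hZ | hZ
      · exact Subsingleton.elim _ _
      haveI := charP_end hexpZ
      show ((Ψ c - 1) ^ p ^ k) w = 0
      rw [sub_pow_char_pow_of_commute _ _ (Commute.one_right _), one_pow, end_sub_apply,
        sub_eq_zero, ← map_pow]
      refine congrArg Additive.ofMul (Subtype.ext ?_)
      show c ^ p ^ k * ((w.toMul : Y) : G) * (c ^ p ^ k)⁻¹ = _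
      rw [hw _ ⟨A.pow_mem h.cA _, h.cn⟩, mul_inv_cancel_right]
      rfl
    have hlt : ∀ m, N m ≠ ⊥ → N (m + 1) < N m := fun m hm => lt_of_le_of_ne (hNle m) fun he => by
      have hst : ∀ i, N (m + i) = N m := by
        intro i
        induction i with
        | zero => rfl
        | succ i ih => rw [← Nat.add_assoc, hNsucc, ih, ← hNsucc, he]
      have hdec : Antitone N := antitone_nat_of_succ_le hNle
      exact hm (le_bot_iff.1 (hnil ▸ (hst n).ge.trans (hdec (Nat.le_add_left n m))))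
    have hN1 : Nat.card (N 1) ≤ n := by
      set X := Y ⊓ centralizer (E : Set G)
      haveI : IsMulCommutative X := le_centralizer_iff_isMulCommutative.1
        (inf_le_left.trans ((le_centralizer_iff_isMulCommutative.2 hYc).trans
          (centralizer_le inf_le_left)))
      have hX := h.max.card_le (C := E) (W := X) inf_le_left (hWA _ (inf_le_left.trans hYW))
        (le_centralizer_iff.1 inf_le_right)
      have hXA : Nat.card X ≤ n * Nat.card ↥(X ⊓ A) := by
        refine Nat.le_of_mul_le_mul_left ?_ (Nat.card_pos (α := E))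
        calc Nat.card E * Nat.card X ≤ Nat.card A * Nat.card ↥(X ⊓ A) := hX
          _ ≤ Nat.card E * n * Nat.card ↥(X ⊓ A) := Nat.mul_le_mul_right _ h.card_A_le
          _ = _ := by ring
      let g : H0 →+ Z := (y : Z →+ Z).comp H0.subtype
      have hg : g.range = N 1 := by
        rw [hNsucc 0, hN0]
        ext z
        exact ⟨fun ⟨w, hw⟩ => ⟨w.1, w.2, hw⟩, fun ⟨w, hw, hwz⟩ => ⟨⟨w, hw⟩, hwz⟩⟩
      have hc1 : Nat.card H0 = Nat.card X :=
        Nat.card_congr ⟨fun z => ⟨((z.1.toMul : Y) : G), (z.1.toMul : Y).2,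
            mem_centralizer_iff.2 fun e he => z.2 e he⟩,
          fun d => ⟨ζ d.1 d.2.1, fun e he => mem_centralizer_iff.1 d.2.2 e he⟩,
          fun z => rfl, fun d => rfl⟩
      have hc2 : Nat.card ↥(X ⊓ A) ≤ Nat.card g.ker := by
        refine Nat.card_le_card_of_injective (fun d => ⟨⟨ζ d.1 d.2.1.1,
          fun e he => mem_centralizer_iff.1 d.2.1.2 e he⟩, ?_⟩) fun a b hab => Subtype.ext
            ((ζeq a.2.1.1 b.2.1.1).1 (congrArg Subtype.val (congrArg Subtype.val hab)))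
        show y (ζ d.1 d.2.1.1) = 0
        rw [show y (ζ d.1 d.2.1.1) = ζ (dl c d.1) (hdlY c d.2.1.1) from (hΨ c d.2.1.1).symm,
          ζzero, dl_eq_one_iff]
        exact h.max.apply_comm h.cA d.2.2
      have hc3 : Nat.card H0 = Nat.card g.range * Nat.card g.ker := by
        rw [AddSubgroup.card_eq_card_quotient_mul_card_addSubgroup g.ker,
          Nat.card_congr (QuotientAddGroup.quotientKerEquivRange g).toEquiv]
      rw [← hg]
      refine Nat.le_of_mul_le_mul_right ?_ (Nat.card_pos (α := g.ker))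
      calc _ = Nat.card X := by rw [← hc3, hc1]
        _ ≤ n * Nat.card ↥(X ⊓ A) := hXA
        _ ≤ _ := Nat.mul_le_mul_left _ hc2
    intro z hz
    by_contra hne
    have hNk : N (k + 1) ≠ ⊥ := fun hb => hne ((AddSubgroup.eq_bot_iff_forall _).1 hb _ ⟨z, hz, rfl⟩)
    have hgrow : ∀ i, 1 + i ≤ k + 2 → Nat.card (N (1 + i)) * p ^ i ≤ Nat.card (N 1) := by
      intro i
      induction i with
      | zero => intro; simp
      | succ i ih =>
        intro hi
        have hne' : N (1 + i) ≠ ⊥ := fun hb => hNk (le_bot_iff.1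
          (hb ▸ antitone_nat_of_succ_le hNle (by omega : 1 + i ≤ k + 1)))
        calc Nat.card (N (1 + (i + 1))) * p ^ (i + 1)
            = Nat.card (N (1 + i + 1)) * p * p ^ i := by
              rw [← Nat.add_assoc, pow_succ]; ring
          _ ≤ Nat.card (N (1 + i)) * p ^ i :=
              Nat.mul_le_mul_right _ (mul_le_pow_of_lt hexpZ (hlt _ hne'))
          _ ≤ _ := ih (by omega)
    have h1 := (Nat.le_mul_of_pos_left _ (Nat.card_pos (α := N (1 + (k + 1))))).trans
      ((hgrow (k + 1) (by omega)).trans hN1)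
    exact absurd h1 (not_le.2 (Nat.pow_lt_pow_right hp.out.one_lt (Nat.lt_succ_self k)))
  -- the pairing
  have hcS : ∀ {s t u v : G}, s ∈ S → t ∈ S → u ∈ Y → v ∈ Y → ⁅s * u, t * v⁆ = ⁅s, t⁆ := by
    intro s t u v hs ht hu hv
    have e1 : ⁅s, v⁆ = 1 := commutatorElement_eq_one_iff_mul_comm.2 (hcen v hv s hs).symm
    have e2 : ⁅u, t * v⁆ = 1 :=
      commutatorElement_eq_one_iff_mul_comm.2 (hcen u hu _ (S.mul_mem ht (hYS.le hv)))
    rw [Cfsg.Lib.PGroups.mul_left_commutator, e2, mul_one, mul_inv_cancel, one_mul,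
      Cfsg.Lib.PGroups.mul_right_commutator, e1, mul_one, mul_inv_cancel, mul_one]
  let βf : V → V → Z := fun u v => ζ ⁅((u.toMul.out : S) : G), ((v.toMul.out : S) : G)⁆
    (hcommY _ (u.toMul.out).2 _ (v.toMul.out).2)
  have hβ : ∀ {s t : G} (hs : s ∈ S) (ht : t ∈ S),
      βf (π s hs) (π t ht) = ζ ⁅s, t⁆ (hcommY s hs t ht) := by
    intro s t hs ht
    rw [ζeq]
    obtain ⟨u, hu⟩ := QuotientGroup.mk_out_eq_mul Y₀ (⟨s, hs⟩ : S)
    obtain ⟨v, hv⟩ := QuotientGroup.mk_out_eq_mul Y₀ (⟨t, ht⟩ : S)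
    show ⁅((QuotientGroup.mk (⟨s, hs⟩ : S) : ↥S ⧸ Y₀).out : G),
      ((QuotientGroup.mk (⟨t, ht⟩ : S) : ↥S ⧸ Y₀).out : G)⁆ = ⁅s, t⁆
    rw [hu, hv]
    exact hcS hs ht (mem_subgroupOf.1 u.2) (mem_subgroupOf.1 v.2)
  let β : V →+ V →+ Z := AddMonoidHom.mk' (fun u => AddMonoidHom.mk' (βf u) (fun v v' => by
      obtain ⟨s, hs, rfl⟩ := πsurj u
      obtain ⟨t, ht, rfl⟩ := πsurj v
      obtain ⟨t', ht', rfl⟩ := πsurj v'
      rw [← πmul ht ht', hβ, hβ, hβ]
      refine congrArg Additive.ofMul (Subtype.ext ?_)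
      show ⁅s, t * t'⁆ = ⁅s, t⁆ * ⁅s, t'⁆
      rw [Cfsg.Lib.PGroups.mul_right_commutator, ← hcen _ (hcommY s hs t' ht') t ht,
        mul_inv_cancel_right])) (fun u u' => AddMonoidHom.ext fun v => by
      obtain ⟨s, hs, rfl⟩ := πsurj u
      obtain ⟨s', hs', rfl⟩ := πsurj u'
      obtain ⟨t, ht, rfl⟩ := πsurj v
      show βf (π s hs + π s' hs') _ = βf _ _ + βf _ _
      rw [← πmul hs hs', hβ, hβ, hβ]
      refine congrArg Additive.ofMul (Subtype.ext ?_)
      show ⁅s * s', t⁆ = ⁅s, t⁆ * ⁅s', t⁆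
      rw [Cfsg.Lib.PGroups.mul_left_commutator, ← hcen _ (hcommY s' hs' t ht) s hs,
        mul_inv_cancel_right, hcen _ (hcommY s' hs' t ht) _ (hYS.le (hcommY s hs t ht))])
  have hββ : ∀ {s t : G} (hs : s ∈ S) (ht : t ∈ S),
      β (π s hs) (π t ht) = ζ ⁅s, t⁆ (hcommY s hs t ht) := fun hs ht => hβ hs ht
  have hβg : ∀ (g : G) (u v : V), β (Φ g u) (Φ g v) = Ψ g (β u v) := by
    intro g u v
    obtain ⟨s, hs, rfl⟩ := πsurj u
    obtain ⟨t, ht, rfl⟩ := πsurj v
    rw [hΦ, hΦ, hββ, hββ]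
    refine congrArg Additive.ofMul (Subtype.ext ?_)
    show ⁅g * s * g⁻¹, g * t * g⁻¹⁆ = g * ⁅s, t⁆ * g⁻¹
    simp only [commutatorElement_def]; group
  have hβH0 : ∀ u v, β u v ∈ H0 := by
    intro u v e he
    have h1 : Ψ e (β u v) = β u v := by rw [← hβg, hΦW e he.2]; rfl
    have h2 := congrArg (fun t : Z => ((t.toMul : Y) : G)) h1
    change e * ((β u v).toMul : G) * e⁻¹ = _ at h2
    conv_rhs => rw [← h2]
    group
  have hVc : ∀ v, v + x v = Φ c v := fun v => by
    rw [hxdef, end_sub_apply]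
    show v + (Φ c v - v) = _
    abel
  have hinv : ∀ u v, β (u + x u) (v + x v) = β u v + y (β u v) := by
    intro u v
    rw [hVc, hVc, hβg, hydef, end_sub_apply]
    show Ψ c (β u v) = β u v + (Ψ c (β u v) - β u v)
    abel
  have hsurjc : Function.Surjective fun v => v + x v := fun v => ⟨Φ c⁻¹ v, by
    show Φ c⁻¹ v + x (Φ c⁻¹ v) = v
    rw [hVc, ← end_mul_apply, ← map_mul, mul_inv_cancel, map_one]
    rfl⟩
  -- more than one block
  have hb2 : 2 ≤ b := by
    by_contra hb1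
    let Z1 : AddSubgroup Z := AddSubgroup.closure (Set.range fun t : V × V => β t.1 t.2)
    let N1 := Z1.map (y : Z →+ Z)
    let β' : V →+ V →+ Z ⧸ N1 :=
      AddMonoidHom.mk' (fun u => (QuotientAddGroup.mk' N1).comp (β u)) (fun a a' => by
        rw [map_add, AddMonoidHom.comp_add])
    have hmem : ∀ u v, β u v ∈ Z1 := fun u v => AddSubgroup.subset_closure ⟨(u, v), rfl⟩
    have hn0 : ∀ u v, (QuotientAddGroup.mk' N1) (y (β u v)) = 0 := fun u v =>
      (QuotientAddGroup.eq_zero_iff _).2 ⟨_, hmem u v, rfl⟩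
    refine card_ker_ne_prime β' x (p := p) hfree ((Nat.Prime.odd_of_ne_two hp.out hp2).pow)
      ?_ ?_ ?_ hsurjc ?_ ?_ (by rw [← hBdef, hb, show b = 1 by omega, pow_one])
    · intro z hz
      obtain ⟨z, rfl⟩ := QuotientAddGroup.mk'_surjective N1 z
      obtain ⟨r, hr⟩ := Nat.Prime.odd_of_ne_two hp.out hp2
      have h0 : p • (QuotientAddGroup.mk' N1 z) = 0 := by rw [← map_nsmul, hexpZ, map_zero]
      rw [hr, add_nsmul, one_nsmul, mul_comm, mul_nsmul, two_nsmul, ← nsmul_add, hz,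
        nsmul_zero, zero_add] at h0
      exact h0
    · intro u v
      show QuotientAddGroup.mk' N1 (β _ _) = QuotientAddGroup.mk' N1 _
      rw [hinv, map_add, hn0, add_zero]
    · intro u v
      obtain ⟨s, hs, rfl⟩ := πsurj u
      obtain ⟨t, ht, rfl⟩ := πsurj v
      show QuotientAddGroup.mk' N1 (β _ _) = -QuotientAddGroup.mk' N1 (β _ _)
      rw [← map_neg, hββ, hββ]
      refine congrArg _ (congrArg Additive.ofMul (Subtype.ext ?_))
      exact (commutatorElement_inv s t).symm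
    · intro U hU hrad hUrad
      have hUeq : ∀ v, v ∈ U ↔ ∀ w, β' w v = 0 := fun v => ⟨hUrad v, hrad v⟩
      have hUc : ∀ (j : ℕ) {v : V}, v ∈ U → Φ (c ^ j) v ∈ U := by
        intro j
        induction j with
        | zero => intro v hv; rw [pow_zero, map_one]; exact hv
        | succ j ih =>
          intro v hv
          rw [pow_succ', map_mul, end_mul_apply, ← hVc]
          exact U.add_mem (ih hv) (hU _ (ih hv))
      have hUR : ∀ r ∈ R, ∀ v ∈ U, Φ r v ∈ U := by
        intro r hr v hv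
        rw [hUeq] at hv ⊢
        intro w
        obtain ⟨w0, hw, x0, hx0, rfl⟩ := hRK r hr
        have hfix : ∀ a b, Ψ (w0 * x0) (β a b) = β a b := fun a b => by
          have hK' : Ψ x0 (β a b) = β a b := congrArg Additive.ofMul (Subtype.ext
            ((congrArg (· * x0⁻¹) (mem_centralizer_iff.1 (hKY hx0) _
              ((β a b).toMul : Y).2).symm).trans (mul_inv_cancel_right _ x0)) :
              MulAut.conjNormal x0 (β a b).toMul = (β a b).toMul)
          rw [map_mul, end_mul_apply, hK', ← hβg, hΦW w0 hw]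
          rfl
        have hw' : w = Φ (w0 * x0) (Φ (w0 * x0)⁻¹ w) := by
          rw [← end_mul_apply, ← map_mul, mul_inv_cancel, map_one]; rfl
        rw [hw']
        show QuotientAddGroup.mk' N1 (β _ _) = 0
        rw [hβg, hfix]
        exact hv _
      have hUg : ∀ g : G, ∀ v ∈ U, Φ g v ∈ U := by
        intro g
        have hg : g ∈ R ⊔ A := h.gen ▸ mem_top g
        obtain ⟨r, hr, a, ha, rfl⟩ := mem_sup_of_normal_left.1 hg
        intro v hv
        rw [map_mul, end_mul_apply]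
        refine hUR r hr _ ?_
        obtain ⟨j, -, e, he, rfl⟩ := h.exists_split ha
        rw [map_mul, hΦW e he.2, mul_one]
        exact hUc j hv
      let X : Subgroup G :=
        { carrier := {s | ∃ hs : s ∈ S, π s hs ∈ U}
          one_mem' := ⟨S.one_mem, U.zero_mem⟩
          mul_mem' := fun {a b} ⟨ha, ha'⟩ ⟨hb, hb'⟩ => ⟨S.mul_mem ha hb, U.add_mem ha' hb'⟩
          inv_mem' := fun {a} ⟨ha, ha'⟩ => ⟨S.inv_mem ha, U.neg_mem ha'⟩ }
      have hXn : X.Normal := ⟨fun a ⟨ha, ha'⟩ g => ⟨hSn.conj_mem a ha g, hUg g _ ha'⟩⟩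
      rcases hmaxY X hXn (fun d hd => ⟨hYS.le hd, by rw [(πzero _).2 hd]; exact U.zero_mem⟩)
          (fun a ⟨ha, _⟩ => ha) with he | he
      · refine Or.inl ((AddSubgroup.eq_bot_iff_forall _).2 fun v hv => ?_)
        obtain ⟨s, hs, rfl⟩ := πsurj v
        exact (πzero hs).2 (he ▸ (show s ∈ X from ⟨hs, hv⟩))
      · refine Or.inr (top_le_iff.1 fun v _ => ?_)
        obtain ⟨s, hs, rfl⟩ := πsurj v
        obtain ⟨_, h'⟩ : s ∈ X := by rw [he]; exact hs
        exact h'
    · by_contra hall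
      push Not at hall hcase
      have hle : Z1 ≤ N1 := (AddSubgroup.closure_le _).2 (by
        rintro _ ⟨⟨u, v⟩, rfl⟩; exact (QuotientAddGroup.eq_zero_iff _).1 (hall u v))
      have hiter : ∀ m, ∀ z ∈ Z1, ∃ w ∈ Z1, (y ^ m) w = z := by
        intro m
        induction m with
        | zero => exact fun z hz => ⟨z, hz, rfl⟩
        | succ m ih =>
          intro z hz
          obtain ⟨w, hw, rfl⟩ := ih z hz
          obtain ⟨w', hw', hww⟩ := hle hw
          exact ⟨w', hw', by rw [← hww, pow_succ]; rfl⟩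
      obtain ⟨s, hs, t, ht, hst⟩ := hcase
      obtain ⟨w, hw, hwz⟩ := hiter (k + 1) _ (hmem (π s hs) (π t ht))
      rw [hyk w ((AddSubgroup.closure_le H0).2 (by rintro _ ⟨⟨a, b⟩, rfl⟩; exact hβH0 a b) hw),
        hββ] at hwz
      exact hst ((ζzero _).1 hwz.symm)
  -- the replacement inside `Y`
  obtain ⟨W1, hW1Y, hDW1, hW1gen, hW1t⟩ := h.max.exists_tight (hWA Y hYW) hAnY
  set C := A ⊓ centralizer (W1 : Set G) with hCdef
  set C' := C ⊓ W with hC'def
  set i := (n + k + 1) / 2 with hidef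
  have hnk : 4 * k + 1 ≤ n := by
    have h5 : ∀ m, 4 * m + 1 ≤ 5 ^ m := by
      intro m
      induction m with
      | zero => simp
      | succ m ih => rw [pow_succ]; omega
    exact (h5 k).trans (Nat.pow_le_pow_left h.five k)
  have hik : k + 2 ≤ i := by omega
  set J := closure (τ i '' (S : Set G)) with hJdef
  have hJS : J ≤ S := (closure_le _).2 (by rintro _ ⟨s, hs, rfl⟩; exact hτS i hs)
  have hJc : ∀ a ∈ J, ∀ b ∈ J, a * b = b * a := by
    have hgen : ∀ s ∈ S, ∀ t ∈ S, τ i s * τ i t = τ i t * τ i s := by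
      intro s hs t ht
      refine commutatorElement_eq_one_iff_mul_comm.1 ((ζzero (hcommY _ (hτS i hs) _ (hτS i ht))).1 ?_)
      rw [← hββ (hτS i hs) (hτS i ht), ← hτ i hs, ← hτ i ht]
      exact pairing_pow_eq_zero β x y (d := k + 1) hfree.nil hinv hsurjc
        (fun u v => hyk _ (hβH0 u v)) i i 0 (by omega) _ _
    have hJJ : IsMulCommutative J := Subgroup.isMulCommutative_closure fun a ha b hb => by
      obtain ⟨s, hs, rfl⟩ := ha
      obtain ⟨t, ht, rfl⟩ := hb
      exact hgen s hs t ht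
    exact fun a ha b hb => congrArg Subtype.val (mul_comm' (⟨a, ha⟩ : J) ⟨b, hb⟩)
  -- `C'` centralises `J`
  have hCJ : C' ≤ centralizer (J : Set G) := by
    intro e' he'
    have hsub : τ i '' (S : Set G) ⊆ centralizer ({e'} : Set G) := by
      rintro _ ⟨s, hs, rfl⟩
      refine mem_centralizer_iff.2 fun t ht => ?_
      rw [Set.mem_singleton_iff] at ht
      subst ht
      refine dl_eq_one_iff.1 ?_
      have heE : t ∈ E := ⟨he'.1.1, he'.2⟩
      set d := dl t s
      have hd : d ∈ Y := hWS t he'.2 s hs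
      have hcomm : ∀ m, dl t (τ m s) = (dl c)^[m] d := by
        intro m
        induction m with
        | zero => rfl
        | succ m ih =>
          rw [Function.iterate_succ_apply', ← ih]
          show dl t ((dl c)^[m + 1] s) = _
          rw [Function.iterate_succ_apply']
          set u := (dl c)^[m] s
          have hu : u ∈ S := hτS m hs
          have hdu : dl t u ∈ Y := hWS t he'.2 u hu
          have e1 : t * dl c u * t⁻¹ = (t * u * t⁻¹)⁻¹ * (c * (t * u * t⁻¹) * c⁻¹) := by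
            have ec : t * c = c * t := hEc t heE
            calc t * dl c u * t⁻¹ = (t * u * t⁻¹)⁻¹ * ((t * c) * u * (t * c)⁻¹) := by
                  simp only [dl]; group
              _ = _ := by rw [ec]; group
          have e2 : t * u * t⁻¹ = u * dl t u := by simp only [dl]; group
          have e3 : (dl t u)⁻¹ * (u⁻¹ * (c * u * c⁻¹)) = (u⁻¹ * (c * u * c⁻¹)) * (dl t u)⁻¹ :=
            hcen _ (Y.inv_mem hdu) _ (hdlS c hu)
          show (dl c u)⁻¹ * (t * dl c u * t⁻¹) = dl c (dl t u)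
          rw [e1, e2]
          generalize dl t u = D at e3 hdu ⊢
          simp only [dl]
          calc (u⁻¹ * (c * u * c⁻¹))⁻¹ * ((u * D)⁻¹ * (c * (u * D) * c⁻¹))
              = (u⁻¹ * (c * u * c⁻¹))⁻¹ * (D⁻¹ * (u⁻¹ * (c * u * c⁻¹))) * (c * D * c⁻¹) := by group
            _ = (u⁻¹ * (c * u * c⁻¹))⁻¹ * ((u⁻¹ * (c * u * c⁻¹)) * D⁻¹) * (c * D * c⁻¹) := by
              rw [e3]
            _ = D⁻¹ * (c * D * c⁻¹) := by group
      rw [hcomm]
      have hzH : ζ (dl c d) (hdlY c hd) ∈ H0 := by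
        intro e he
        show e * dl c d = dl c d * e
        refine dl_eq_one_iff.1 ?_
        set d' := dl e s
        have hd' : d' ∈ Y := hWS e he.2 s hs
        have hswap : dl e d = dl t d' := by
          have ec : e * t = t * e := h.max.apply_comm he.1 heE.1
          have h1 : dl e s * (e * dl t s * e⁻¹) = dl t s * (t * dl e s * t⁻¹) := by
            rw [← dl_mul, ← dl_mul, ec]
          change d' * (e * d * e⁻¹) = d * (t * d' * t⁻¹) at h1
          simp only [dl]
          apply mul_left_cancel (a := d)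
          apply mul_left_cancel (a := d')
          calc d' * (d * (d⁻¹ * (e * d * e⁻¹))) = d' * (e * d * e⁻¹) := by group
            _ = d * (t * d' * t⁻¹) := h1
            _ = (d * d') * (d'⁻¹ * (t * d' * t⁻¹)) := by group
            _ = (d' * d) * (d'⁻¹ * (t * d' * t⁻¹)) := by rw [hcen d hd d' (hYS.le hd')]
            _ = _ := by group
        rw [hdlcomm (hEc e he) hd, hswap, ← hdlcomm (hEc t heE) hd', dl_eq_one_iff]
        exact (mem_centralizer_iff.1 he'.1.2 _ (hW1gen d' hd' c h.cA)).symm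
      have hiter : ∀ m, ∀ {d : G} (hd : d ∈ Y) (hm : (dl c)^[m] d ∈ Y),
          ζ ((dl c)^[m] d) hm = (y ^ m) (ζ d hd) := by
        intro m
        induction m with
        | zero => intros; rfl
        | succ m ih =>
          intro d hd hm
          have hm' : (dl c)^[m] d ∈ Y := by
            clear ih hm
            induction m with
            | zero => exact hd
            | succ m ih => rw [Function.iterate_succ_apply']; exact hdlY c ih
          rw [end_pow_succ_apply, ← ih hd hm']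
          show _ = (Ψ c - 1) _
          rw [← hΨ c hm', ζeq]
          exact Function.iterate_succ_apply' _ _ _
      have hiY : ∀ m, (dl c)^[m] d ∈ Y := by
        intro m
        induction m with
        | zero => exact hd
        | succ m ih => rw [Function.iterate_succ_apply']; exact hdlY c ih
      rw [← ζzero (hiY i), hiter i hd, show i = (i - (k + 2)) + ((k + 1) + 1) by omega,
        end_pow_add_apply, end_pow_add_apply, pow_one]
      show (y ^ _) ((y ^ (k + 1)) ((Ψ c - 1) (ζ d hd))) = 0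
      rw [← hΨ c hd, hyk _ hzH, map_zero]
    have hJle : J ≤ centralizer ({e'} : Set G) := (closure_le _).2 hsub
    exact mem_centralizer_iff.2 fun a ha =>
      (mem_centralizer_iff.1 (hJle ha) e' (Set.mem_singleton e')).symm
  -- the count
  set W' := J ⊔ W1
  have hW'S : W' ≤ S := sup_le hJS (hW1Y.trans hYS.le)
  haveI : IsMulCommutative W' := by
    haveI : IsMulCommutative J := ⟨⟨fun a b => Subtype.ext (hJc a a.2 b b.2)⟩⟩
    haveI : IsMulCommutative W1 := le_centralizer_iff_isMulCommutative.1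
      (hW1Y.trans ((le_centralizer_iff_isMulCommutative.2 hYc).trans (centralizer_le hW1Y)))
    exact isMulCommutative_sup (hJS.trans (le_centralizer_iff.1 (hW1Y.trans hYcen)))
  have hmain := h.max.card_le (C := C') (W := W') (inf_le_left.trans inf_le_left)
    (hWA _ (hW'S.trans hSW))
    (le_centralizer_iff.1 (sup_le (le_centralizer_iff.1 hCJ)
      (le_centralizer_iff.1 (inf_le_left.trans inf_le_right))))
  have hCC' : Nat.card C ≤ n * Nat.card C' := by
    have h1 := relIndex_mul_relIndex ⊥ C' C bot_le inf_le_left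
    rw [relIndex_bot_left, relIndex_bot_left, hC'def, inf_comm C W, inf_relIndex_right] at h1
    have h2 : W.relIndex C ≤ W.relIndex A :=
      relIndex_le_of_le_right inf_le_left index_ne_zero_of_finite
    have h3 : W.relIndex A ≤ n := by
      have h4 := relIndex_mul_relIndex ⊥ E A bot_le inf_le_left
      rw [relIndex_bot_left, relIndex_bot_left, hEdef, inf_comm A W, inf_relIndex_right] at h4
      refine Nat.le_of_mul_le_mul_left ?_ (Nat.card_pos (α := ↥(W ⊓ A)))
      rw [h4, inf_comm]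
      exact h.card_A_le
    rw [← h1, hC'def, inf_comm C W, mul_comm]
    exact Nat.mul_le_mul_right _ (h2.trans h3)
  set KK := W1 ⊔ (W' ⊓ A) with hKKdef
  have hKKW' : KK ≤ W' := sup_le le_sup_right inf_le_left
  have hKK : Nat.card W1 * Nat.card ↥(W' ⊓ A) = Nat.card KK * Nat.card ↥(Y ⊓ A) := by
    rw [card_sup_mul_card_inf_of_le_normalizer (hW1Y.trans (hYcen.trans
      ((centralizer_le (inf_le_left.trans hW'S : W' ⊓ A ≤ S)).trans (centralizer_le_normalizer _))))]
    congr 2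
    have e : W1 ⊓ (W' ⊓ A) = Y ⊓ A := le_antisymm
      (le_inf (inf_le_left.trans hW1Y) (inf_le_right.trans inf_le_right))
      (le_inf hDW1 (le_inf (hDW1.trans le_sup_right) inf_le_right))
    rw [e]
  let xm : (↥S ⧸ Y₀) →* (↥S ⧸ Y₀) := MonoidHom.mk' (fun q => (x (Additive.ofMul q)).toMul)
    (fun q q' => congrArg Additive.toMul (map_add x (Additive.ofMul q) (Additive.ofMul q')))
  let g : ↥W' →* ↥S ⧸ Y₀ := xm.comp ((QuotientGroup.mk' Y₀).comp (inclusion hW'S))
  have hgapp : ∀ {a : G} (ha : a ∈ W'), g ⟨a, ha⟩ = (x (π a (hW'S ha))).toMul := fun ha => rfl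
  have hrange : Nat.card (AddMonoidHom.range (x ^ (i + 1) : AddMonoid.End V)) ≤ Nat.card g.range := by
    refine Nat.card_le_card_of_injective (fun v => ⟨v.1.toMul, ?_⟩)
      (fun v w hvw => by have h2 := congrArg Subtype.val hvw; exact Subtype.ext (Additive.toMul.injective h2))
    obtain ⟨v0, hv0⟩ := v.2
    obtain ⟨s, hs, rfl⟩ := πsurj v0
    refine ⟨⟨τ i s, mem_sup_left (subset_closure ⟨s, hs, rfl⟩)⟩, ?_⟩
    rw [hgapp, ← hv0]
    exact congrArg Additive.toMul
      ((end_pow_succ_apply x i _).trans (congrArg x (hτ i hs))).symm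
  have hker : Nat.card KK ≤ Nat.card g.ker := by
    have hle : KK ≤ g.ker.map W'.subtype := by
      refine sup_le (fun w hw => ⟨⟨w, mem_sup_right hw⟩, ?_, rfl⟩)
        (fun w hw => ⟨⟨w, hw.1⟩, ?_, rfl⟩)
      · rw [SetLike.mem_coe, MonoidHom.mem_ker, hgapp, (πzero _).2 (hW1Y hw), map_zero]
        rfl
      · have h0 : x (π w (hW'S hw.1)) = 0 := by
          rw [hx (hW'S hw.1), πzero, dl_eq_one_iff.2 (h.max.apply_comm h.cA hw.2)]
          exact Y.one_mem
        rw [SetLike.mem_coe, MonoidHom.mem_ker, hgapp, h0]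
        rfl
    exact (card_le_of_le hle).trans (card_subtype _ _).le
  have hW'card : Nat.card g.range * Nat.card g.ker = Nat.card W' := by
    rw [card_eq_card_quotient_mul_card_subgroup g.ker,
      Nat.card_congr (QuotientGroup.quotientKerEquivRange g).toEquiv]
  set Rr := Nat.card (AddMonoidHom.range (x ^ (i + 1) : AddMonoid.End V)) with hRr
  have hfinal : Rr ≤ n := by
    refine Nat.le_of_mul_le_mul_right ?_ (Nat.mul_pos (Nat.mul_pos (Nat.card_pos (α := C'))
      (Nat.card_pos (α := W1))) (Nat.card_pos (α := ↥(W' ⊓ A))))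
    calc Rr * (Nat.card C' * Nat.card W1 * Nat.card ↥(W' ⊓ A))
        = Nat.card C' * (Rr * Nat.card KK) * Nat.card ↥(Y ⊓ A) := by
          rw [mul_assoc (Nat.card C') (Nat.card W1), hKK]; ring
      _ ≤ Nat.card C' * (Nat.card g.range * Nat.card g.ker) * Nat.card ↥(Y ⊓ A) := by
          gcongr
      _ = Nat.card C' * Nat.card W' * Nat.card ↥(Y ⊓ A) := by rw [hW'card]
      _ ≤ Nat.card A * Nat.card ↥(W' ⊓ A) * Nat.card ↥(Y ⊓ A) := Nat.mul_le_mul_right _ hmain
      _ = Nat.card A * Nat.card ↥(Y ⊓ A) * Nat.card ↥(W' ⊓ A) := by ring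
      _ ≤ Nat.card C * Nat.card W1 * Nat.card ↥(W' ⊓ A) := Nat.mul_le_mul_right _ hW1t
      _ ≤ n * Nat.card C' * Nat.card W1 * Nat.card ↥(W' ⊓ A) := by gcongr
      _ = _ := by ring
  have hcr := hfree.card_range (n - (i + 1)) (by omega)
  rw [show n - (n - (i + 1)) = i + 1 by omega, ← hBdef, hb, ← pow_mul, ← hRr] at hcr
  rw [hcr] at hfinal
  have h2 : 2 * (n - (i + 1)) ≤ k := (Nat.mul_le_mul_right _ hb2).trans
    ((Nat.pow_le_pow_iff_right hp.out.one_lt).1 hfinal)
  omega

end Cfsg.Lib.JAb
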