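import Cfsg.Agent.PLocal.JAbelian.Frobenius
import Cfsg.Agent.Thompson.PComplement
import Cfsg.Agent.Components.ZJ.Reduce
import Cfsg.Agent.Fusion.ThompsonControl

/-!
For `p ≥ 5` a group has a normal `p`-complement as soon as the normaliser of the abelian-version
Thompson subgroup of a Sylow `p`-subgroup has one.
-/

set_option autoImplicit false
set_option linter.style.haveILetI false
set_option linter.unusedSectionVars false
set_option maxHeartbeats 1000000

namespace Cfsg.Lib.JAb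

open Subgroup Cfsg.Lib.Thompson
open scoped commutatorElement

universe u

variable {G : Type u} [Group G] {p : ℕ} [hp : Fact p.Prime]

theorem J_le (P : Subgroup G) : Cfsg.thompsonSubgroupAOf P ≤ P := map_subtype_le _

theorem le_J {P A : Subgroup G} (h : A ∈ Cfsg.Lib.Fusion.maxAb P) :
    A ≤ Cfsg.thompsonSubgroupAOf P := by
  rw [Cfsg.Lib.Fusion.thompsonAOf_eq]
  exact le_sSup h

theorem map_J [Finite G] {H : Type u} [Group H] {f : G →* H} {D : Subgroup G} (hf : Set.InjOn f D) :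
    (Cfsg.thompsonSubgroupAOf D).map f = Cfsg.thompsonSubgroupAOf (D.map f) := by
  rw [Cfsg.Lib.Fusion.thompsonAOf_eq, Cfsg.Lib.Fusion.thompsonAOf_eq, (gc_map_comap f).l_sSup]
  refine le_antisymm (iSup₂_le fun A hA => le_sSup (Cfsg.Lib.ZJ.map_maxAb_injOn hf hA))
    (sSup_le fun A' hA' => ?_)
  obtain ⟨h1, h2, hmax⟩ := hA'
  haveI := h2
  set B := D ⊓ A'.comap f
  have hBA : B.map f = A' := by
    refine le_antisymm ((map_mono inf_le_right).trans (map_comap_le f A')) fun y hy => ?_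
    obtain ⟨x, hx, rfl⟩ := h1 hy
    exact mem_map_of_mem f ⟨hx, hy⟩
  have hB : B ∈ Cfsg.Lib.Fusion.maxAb D := by
    refine ⟨inf_le_left, ⟨⟨fun a b => Subtype.ext (hf (mul_mem a.2.1 b.2.1) (mul_mem b.2.1 a.2.1) ?_)⟩⟩,
      fun A hA hAc => ?_⟩
    · simp only [Subgroup.coe_mul, map_mul]
      exact congrArg Subtype.val (mul_comm' (⟨f a, a.2.2⟩ : A') ⟨f b, b.2.2⟩)
    · haveI := hAc
      rw [← card_map_of_injOn (hf.mono hA), ← card_map_of_injOn (hf.mono (inf_le_left : B ≤ D)), hBA]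
      exact hmax _ (map_mono hA) inferInstance
  exact hBA.ge.trans (le_iSup₂_of_le B hB le_rfl)

theorem normalizer_le_normalizer_J [Finite G] (P : Subgroup G) :
    normalizer (P : Set G) ≤ normalizer (Cfsg.thompsonSubgroupAOf P : Set G) := by
  intro g hg
  rw [← Cfsg.Lib.Coprime.conjMap_eq_self_iff] at hg ⊢
  show (Cfsg.thompsonSubgroupAOf P).map (MulAut.conj g).toMonoidHom = _
  rw [map_J (f := (MulAut.conj g).toMonoidHom) (MulAut.conj g).injective.injOn]
  exact congrArg Cfsg.thompsonSubgroupAOf hg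

theorem J_ne_bot [Finite G] {P : Subgroup G} (hP : IsPGroup p P) (hne : P ≠ ⊥) :
    Cfsg.thompsonSubgroupAOf P ≠ ⊥ := fun h =>
  center_ne_bot hP hne (le_bot_iff.1 (h ▸ Cfsg.Lib.Fusion.center_le_thompsonAOf))

/-- The hypothesis. -/
def HypJ (p : ℕ) (P : Subgroup G) : Prop :=
  Cfsg.HasNormalPComplement p ↥(normalizer (Cfsg.thompsonSubgroupAOf P : Set G))

theorem hypJ_of_hom {H : Type u} [Group H] [Finite G] {f : H →* G} (hf : Function.Injective f)
    {S : Subgroup H} (h : HypJ p (S.map f)) : HypJ p S := by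
  haveI : Finite H := Finite.of_injective f hf
  have h1 : ∀ x ∈ normalizer (Cfsg.thompsonSubgroupAOf S : Set H),
      f x ∈ normalizer (Cfsg.thompsonSubgroupAOf (S.map f) : Set G) := fun x hx => by
    rw [← map_J hf.injOn]
    exact le_normalizer_map f (mem_map_of_mem f hx)
  refine Cfsg.Lib.Transfer.hasNormalPComplement_of_injective
    (MonoidHom.mk' (fun x => ⟨f x.1, h1 x.1 x.2⟩) fun a b => Subtype.ext (map_mul f _ _))
    (fun a b hab => ?_) h
  exact Subtype.ext (hf (congrArg Subtype.val hab))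

theorem hypJ_sylow [Finite G] {P : Sylow p G} (h : HypJ p (P : Subgroup G)) (Q : Sylow p G) :
    HypJ p (Q : Subgroup G) := by
  obtain ⟨g, hg⟩ := MulAction.exists_smul_eq G Q P
  refine hypJ_of_hom (f := (MulAut.conj g).toMonoidHom) (MulAut.conj g).injective ?_
  rwa [← Cfsg.Lib.Transfer.sylow_smul_coe, hg]

/-- An abelian group of operators of `p`-power order, acting irreducibly and nontrivially on an
abelian `p'`-group, is cyclic modulo its kernel. -/
theorem exists_generator {Gb : Type u} [Group Gb] [Finite Gb] (M Ab : Subgroup Gb)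
    [IsMulCommutative M] [IsMulCommutative Ab] (hAb : IsPGroup p Ab) (hM : Ab ≤ normalizer (M : Set Gb))
    (hirr : ∀ X ≤ M, Ab ≤ normalizer (X : Set Gb) → X = ⊥ ∨ X = M)
    (hnt : ¬ Ab ≤ centralizer (M : Set Gb)) :
    ∃ g ∈ Ab, ∃ k : ℕ, 1 ≤ k ∧
      (∀ j : ℕ, g ^ j ∈ centralizer (M : Set Gb) ↔ p ^ k ∣ j) ∧
      (∀ a ∈ Ab, ∃ j : ℕ, (g ^ j)⁻¹ * a ∈ centralizer (M : Set Gb)) ∧
      (∀ j : ℕ, ∀ m ∈ M, g ^ j * m = m * g ^ j → g ^ j ∈ centralizer (M : Set Gb) ∨ m = 1) := by
  classical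
  letI : CommGroup M := { (inferInstance : Group M) with mul_comm := mul_comm' }
  let V := Additive M
  haveI : Finite V := Finite.of_equiv M Additive.ofMul
  have hMne : M ≠ ⊥ := fun h => hnt fun a _ => mem_centralizer_iff.2 fun m hm => by
    rw [h] at hm
    rw [mem_bot.1 hm, one_mul, mul_one]
  let act : ∀ a : Ab, M →* M := fun a => MonoidHom.mk'
    (fun m => ⟨(a : Gb) * m * (a : Gb)⁻¹, (mem_normalizer_iff.1 (hM a.2) m).1 m.2⟩)
    (fun m m' => Subtype.ext (by simp [mul_assoc]))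
  let ρ : Ab →* AddMonoid.End V :=
    { toFun := fun a => MonoidHom.toAdditive (act a)
      map_one' := DFunLike.ext (F := AddMonoid.End V) _ _ fun (v : V) => congrArg Additive.ofMul (Subtype.ext (by
        show (1 : Gb) * (v.toMul : M) * (1 : Gb)⁻¹ = (v.toMul : M)
        group))
      map_mul' := fun a b => DFunLike.ext (F := AddMonoid.End V) _ _ fun (v : V) => congrArg Additive.ofMul (Subtype.ext (by
        show ((a : Gb) * b) * (v.toMul : M) * ((a : Gb) * b)⁻¹ =
          (a : Gb) * ((b : Gb) * (v.toMul : M) * (b : Gb)⁻¹) * (a : Gb)⁻¹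
        group)) }
  have hcomm : ∀ x ∈ Set.range ρ, ∀ y ∈ Set.range ρ, x * y = y * x := by
    rintro _ ⟨a, rfl⟩ _ ⟨b, rfl⟩
    rw [← map_mul, ← map_mul, mul_comm']
  let R := Subring.closure (Set.range ρ)
  letI : CommRing R := Subring.closureCommRingOfComm hcomm
  have hker : ∀ r : R, r ≠ 0 → ∀ v : V, (r : AddMonoid.End V) v = 0 → v = 0 := by
    intro r hr
    let X : Subgroup Gb :=
      { carrier := {x | ∃ hx : x ∈ M, (r : AddMonoid.End V) (Additive.ofMul ⟨x, hx⟩) = 0}
        one_mem' := ⟨M.one_mem, map_zero _⟩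
        mul_mem' := fun {a b} ⟨ha, ha'⟩ ⟨hb, hb'⟩ => ⟨M.mul_mem ha hb, by
          rw [show Additive.ofMul (⟨a * b, M.mul_mem ha hb⟩ : M) =
            Additive.ofMul (⟨a, ha⟩ : M) + Additive.ofMul (⟨b, hb⟩ : M) from rfl,
            map_add, ha', hb', add_zero]⟩
        inv_mem' := fun {a} ⟨ha, ha'⟩ => ⟨M.inv_mem ha, by
          rw [show Additive.ofMul (⟨a⁻¹, M.inv_mem ha⟩ : M) = -Additive.ofMul (⟨a, ha⟩ : M) from rfl,
            map_neg, ha', neg_zero]⟩ }
    have hcon : ∀ a ∈ Ab, ∀ x ∈ X, a * x * a⁻¹ ∈ X := by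
      rintro a ha x ⟨hx, hrx⟩
      refine ⟨(mem_normalizer_iff.1 (hM ha) x).1 hx, ?_⟩
      have hc : (r : AddMonoid.End V) * ρ ⟨a, ha⟩ = ρ ⟨a, ha⟩ * (r : AddMonoid.End V) :=
        congrArg Subtype.val (mul_comm r (⟨_, Subring.subset_closure ⟨_, rfl⟩⟩ : R))
      have := congrArg (fun t : AddMonoid.End V => t (Additive.ofMul (⟨x, hx⟩ : M))) hc
      refine this.trans ?_
      show ρ ⟨a, ha⟩ ((r : AddMonoid.End V) _) = 0
      rw [hrx, map_zero]
    have hXn : Ab ≤ normalizer (X : Set Gb) := fun a ha => mem_normalizer_iff.2 fun x =>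
      ⟨hcon a ha x, fun hx => by simpa [mul_assoc] using hcon a⁻¹ (Ab.inv_mem ha) _ hx⟩
    rcases hirr X (fun x ⟨hx, _⟩ => hx) hXn with he | he
    · intro v hv
      have h2 : ((v.toMul : M) : Gb) ∈ X := ⟨(v.toMul : M).2, hv⟩
      rw [he, mem_bot] at h2
      exact congrArg Additive.ofMul (Subtype.ext h2 : v.toMul = 1)
    · refine absurd (Subtype.ext (DFunLike.ext _ _ fun v => ?_)) hr
      obtain ⟨hx, hx'⟩ : ((v.toMul : M) : Gb) ∈ X := by rw [he]; exact (v.toMul : M).2
      exact hx'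
  haveI : Nontrivial R := ⟨⟨1, 0, fun h => by
    obtain ⟨⟨m, hm⟩, hm1⟩ : ∃ m : M, m ≠ 1 := by
      haveI := (nontrivial_iff_ne_bot M).2 hMne
      exact exists_ne 1
    refine hm1 ?_
    have := congrArg (fun t : R => (t : AddMonoid.End V) (Additive.ofMul (⟨m, hm⟩ : M))) h
    exact this⟩⟩
  haveI : NoZeroDivisors R := ⟨fun {a b} hab => by
    by_contra h
    push Not at h
    refine h.2 (Subtype.ext (DFunLike.ext _ _ fun v => hker a h.1 _ ?_))
    exact congrArg (fun t : R => (t : AddMonoid.End V) v) hab⟩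
  haveI : IsDomain R := NoZeroDivisors.to_isDomain R
  let ρR : Ab →* R :=
    { toFun := fun a => ⟨ρ a, Subring.subset_closure ⟨a, rfl⟩⟩
      map_one' := Subtype.ext (map_one ρ)
      map_mul' := fun a b => Subtype.ext (map_mul ρ a b) }
  let θ : Ab →* Rˣ := ρR.toHomUnits
  haveI : Finite Ab := inferInstance
  haveI : Finite θ.range := Finite.of_surjective θ.rangeRestrict θ.rangeRestrict_surjective
  haveI : IsCyclic θ.range := isCyclic_subgroup_units θ.range
  obtain ⟨⟨u, hu⟩, hgen⟩ := IsCyclic.exists_monoid_generator (α := θ.range)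
  obtain ⟨g, rfl⟩ := hu
  have hiff : ∀ a : Ab, θ a = 1 ↔ (a : Gb) ∈ centralizer (M : Set Gb) := fun a => by
    constructor
    · intro ha
      refine mem_centralizer_iff.2 fun m hm => ?_
      have := congrArg (fun t : Rˣ => ((t : R) : AddMonoid.End V) (Additive.ofMul (⟨m, hm⟩ : M))) ha
      have h2 : (a : Gb) * m * (a : Gb)⁻¹ = m :=
        congrArg (fun t : V => ((t.toMul : M) : Gb)) this
      conv_lhs => rw [← h2]
      group
    · intro ha
      refine Units.ext (Subtype.ext (DFunLike.ext (F := AddMonoid.End V) _ _ fun (v : V) =>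
        congrArg Additive.ofMul (Subtype.ext ?_)))
      show (a : Gb) * (v.toMul : M) * (a : Gb)⁻¹ = (v.toMul : M)
      rw [← mem_centralizer_iff.1 ha _ (v.toMul : M).2, mul_inv_cancel_right]
  have hpo : ∃ k, orderOf (θ g) = p ^ k := by
    obtain ⟨j, hj⟩ := IsPGroup.iff_orderOf.1 hAb g
    obtain ⟨i, -, hi⟩ := (Nat.dvd_prime_pow hp.out).1 (hj ▸ orderOf_map_dvd θ g)
    exact ⟨i, hi⟩
  obtain ⟨k, hk⟩ := hpo
  have hall : ∀ a : Ab, ∃ j : ℕ, θ a = θ g ^ j := fun a => by
    obtain ⟨j, hj⟩ := Submonoid.mem_powers_iff _ _ |>.1 (hgen ⟨θ a, ⟨a, rfl⟩⟩)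
    exact ⟨j, (congrArg Subtype.val hj).symm⟩
  refine ⟨g, g.2, k, ?_, fun j => ?_, fun a ha => ?_, fun j m hm hcm => ?_⟩
  · by_contra hk0
    refine hnt fun a ha => (hiff ⟨a, ha⟩).1 ?_
    obtain ⟨j, hj⟩ := hall ⟨a, ha⟩
    have hg1 : θ g = 1 := orderOf_eq_one_iff.1 (by rw [hk, show k = 0 by omega, pow_zero])
    rw [hj, hg1, one_pow]
  · rw [← hk, orderOf_dvd_iff_pow_eq_one, ← map_pow, hiff]
    rfl
  · obtain ⟨j, hj⟩ := hall ⟨a, ha⟩
    exact ⟨j, (hiff ((g ^ j)⁻¹ * ⟨a, ha⟩)).1 (by rw [map_mul, map_inv, map_pow, ← hj, inv_mul_cancel])⟩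
  · by_cases hj : θ (g ^ j) = 1
    · exact Or.inl ((hiff _).1 hj)
    · refine Or.inr ?_
      have h0 : ((θ (g ^ j) : R) - 1 : R) ≠ 0 := fun h => hj (Units.ext (sub_eq_zero.1 h))
      have h1 : (((θ (g ^ j) : R) - 1 : R) : AddMonoid.End V) (Additive.ofMul (⟨m, hm⟩ : M)) = 0 := by
        show (ρ (g ^ j) - 1 : AddMonoid.End V) _ = 0
        rw [end_sub_apply, sub_eq_zero]
        refine congrArg Additive.ofMul (Subtype.ext ?_)
        show ((g ^ j : Ab) : Gb) * m * ((g ^ j : Ab) : Gb)⁻¹ = m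
        rw [SubmonoidClass.coe_pow, hcm, mul_inv_cancel_right]
      have h2 : (⟨m, hm⟩ : M) = 1 := congrArg Additive.toMul (hker _ h0 _ h1)
      exact congrArg Subtype.val h2

/-- Fixed points of a coprime abelian operator group which admits no proper invariant section. -/
theorem inf_centralizer_eq_bot {Gb : Type u} [Group Gb] [Finite Gb] (M Ab : Subgroup Gb)
    [IsMulCommutative M] (hc : (Nat.card M).Coprime (Nat.card Ab))
    (hM : Ab ≤ normalizer (M : Set Gb)) (hMA : M ≤ ⁅M, Ab⁆) :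
    M ⊓ centralizer (Ab : Set Gb) = ⊥ := by
  classical
  letI : CommGroup M := { (inferInstance : Group M) with mul_comm := mul_comm' }
  letI := Fintype.ofFinite Ab
  let act : Ab → M → M := fun a m =>
    ⟨(a : Gb) * m * (a : Gb)⁻¹, (mem_normalizer_iff.1 (hM a.2) m).1 m.2⟩
  have hact : ∀ a m m', act a (m * m') = act a m * act a m' := fun a m m' =>
    Subtype.ext (by simp [act, mul_assoc])
  let N : M →* M := MonoidHom.mk' (fun m => ∏ a, act a m) fun m m' => by
    simp only [hact, Finset.prod_mul_distrib]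
  have hN : ∀ (b : Ab) (m : M), N (act b m) = N m := fun b m => by
    show ∏ a, act a (act b m) = ∏ a, act a m
    refine Fintype.prod_equiv (Equiv.mulRight b) _ _ fun a => Subtype.ext ?_
    show (a : Gb) * ((b : Gb) * m * (b : Gb)⁻¹) * (a : Gb)⁻¹ =
      ((a : Gb) * b) * m * ((a : Gb) * b)⁻¹
    group
  have hker : ⁅M, Ab⁆ ≤ N.ker.map M.subtype := commutator_le.2 fun m hm b hb => by
    refine ⟨⟨m, hm⟩ * act ⟨b, hb⟩ (⟨m, hm⟩ : M)⁻¹, ?_, ?_⟩
    · rw [SetLike.mem_coe, MonoidHom.mem_ker, map_mul, hN, map_inv, mul_inv_cancel]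
    · show m * (b * m⁻¹ * b⁻¹) = ⁅m, b⁆
      rw [commutatorElement_def]; group
  refine (eq_bot_iff_forall _).2 fun x hx => ?_
  obtain ⟨x', hx', rfl⟩ := hker (hMA hx.1)
  have h1 : N x' = x' ^ Nat.card Ab := by
    show ∏ a, act a x' = _
    rw [Nat.card_eq_fintype_card, ← Finset.card_univ, ← Finset.prod_const]
    refine Finset.prod_congr rfl fun a _ => Subtype.ext ?_
    show (a : Gb) * x' * (a : Gb)⁻¹ = x'
    rw [(show (a : Gb) * x' = x' * a from mem_centralizer_iff.1 hx.2 a a.2), mul_inv_cancel_right]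
  rw [SetLike.mem_coe, MonoidHom.mem_ker, h1] at hx'
  have h2 := orderOf_eq_one_iff.1 (Nat.eq_one_of_dvd_coprimes hc (orderOf_dvd_natCard x')
    (orderOf_dvd_of_pow_eq_one hx'))
  rw [h2]; rfl

/-- Elements of an abelian subgroup of largest order of a Sylow group lie in `U`. -/
theorem maxAb_le_of_faithful [Finite G] (hp5 : 5 ≤ p) {U : Subgroup G} [U.Normal] (hU : IsPGroup p U)
    {P : Subgroup G} (hP : IsPGroup p P) (hUP : U ≤ P) (hCU : centralizer (U : Set G) ≤ U)
    {K₀ : Subgroup (G ⧸ U)} [IsMulCommutative K₀] [K₀.Normal] (hK₀ : (Nat.card K₀).Coprime p)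
    (hfaith : ∀ a ∈ P.map (QuotientGroup.mk' U), (∀ r ∈ K₀, a * r = r * a) → a = 1) :
    ∀ A ∈ Cfsg.Lib.Fusion.maxAb P, A ≤ U := by
  rintro A ⟨hAP, hAc, hAmax⟩
  haveI := hAc
  by_contra hAU
  set f := QuotientGroup.mk' U with hfdef
  set Ab := A.map f with hAbdef
  haveI : IsMulCommutative Ab := map_isMulCommutative A f
  have hAbp : IsPGroup p Ab := (hP.to_le hAP).map f
  obtain ⟨M, ⟨hMK, hMn, hMnt⟩, hMmin⟩ := (Set.toFinite {M : Subgroup (G ⧸ U) | M ≤ K₀ ∧
      Ab ≤ normalizer (M : Set (G ⧸ U)) ∧ ¬ Ab ≤ centralizer (M : Set (G ⧸ U))}).exists_minimal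
    ⟨K₀, le_rfl, le_normalizer_of_normal, fun hle => hAU fun a ha => (QuotientGroup.eq_one_iff a).1
      (hfaith (f a) (mem_map_of_mem f (hAP ha)) fun r hr =>
        ((mem_centralizer_iff.1 (hle (mem_map_of_mem f ha))) r hr).symm)⟩
  haveI : IsMulCommutative M := le_centralizer_iff_isMulCommutative.1
    (hMK.trans ((le_centralizer_iff_isMulCommutative.2 inferInstance).trans (centralizer_le hMK)))
  have hMc : (Nat.card M).Coprime p := hK₀.coprime_dvd_left (card_dvd_of_le hMK)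
  have hsub : ∀ X ≤ M, Ab ≤ normalizer (X : Set (G ⧸ U)) → X ≠ M →
      Ab ≤ centralizer (X : Set (G ⧸ U)) := fun X hX hXn hne => by
    by_contra hc
    exact hne (le_antisymm hX (hMmin ⟨hX.trans hMK, hXn, hc⟩ hX))
  have hCle : ⁅M, Ab⁆ ≤ M := Cfsg.Lib.Coprime.commutator_le_of_le_normalizer hMn
  have hMA : M ≤ ⁅M, Ab⁆ := by
    by_contra hne
    have hle := hsub _ hCle (Cfsg.Lib.Coprime.le_normalizer_commutator_right Ab M) (fun h => hne h.ge)
    refine hMnt fun a ha => mem_centralizer_iff.2 fun m hm => ?_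
    have hd : dl a m ∈ ⁅M, Ab⁆ := by
      rw [show dl a m = ⁅m⁻¹, a⁆ by simp only [dl, commutatorElement_def]; group]
      exact commutator_mem_commutator (M.inv_mem hm) ha
    obtain ⟨j, hj⟩ := hAbp ⟨a, ha⟩
    have hj' : a ^ p ^ j = 1 := congrArg Subtype.val hj
    have h1 := dl_comm_pow (mem_centralizer_iff.1 (hle ha) _ hd).symm (p ^ j)
    rw [hj', one_mul, inv_one, mul_one, left_eq_mul] at h1
    have h2 : dl a m = 1 := orderOf_eq_one_iff.1 (Nat.eq_one_of_dvd_coprimes (hMc.pow_right j)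
      (by rw [← Subgroup.orderOf_mk _ (hCle hd)]; exact orderOf_dvd_natCard _)
      (orderOf_dvd_of_pow_eq_one h1))
    exact (dl_eq_one_iff.1 h2).symm
  have hfix : M ⊓ centralizer (Ab : Set (G ⧸ U)) = ⊥ := by
    obtain ⟨m, hm⟩ := IsPGroup.iff_card.1 hAbp
    exact inf_centralizer_eq_bot M Ab (hm ▸ hMc.pow_right m) hMn hMA
  have hirr : ∀ X ≤ M, Ab ≤ normalizer (X : Set (G ⧸ U)) → X = ⊥ ∨ X = M := fun X hX hXn => by
    by_cases he : X = M
    · exact Or.inr he
    · exact Or.inl (le_bot_iff.1 (hfix ▸ le_inf hX (le_centralizer_iff.1 (hsub X hX hXn he))))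
  obtain ⟨gb, hgb, k, hk1, hord, hgen, hfpf⟩ := exists_generator (p := p) M Ab hAbp hMn hirr hMnt
  obtain ⟨c, hc, rfl⟩ := mem_map.1 hgb
  set E₀ := A ⊓ (centralizer (M : Set (G ⧸ U))).comap f with hE₀
  set Wt := U ⊔ E₀ with hWt
  set R₀ := M.comap f with hR₀
  set Rt := R₀ ⊔ E₀ with hRt
  set L := Rt ⊔ A with hL
  have hfs : Function.Surjective f := QuotientGroup.mk'_surjective U
  have hUR : U ≤ R₀ := (QuotientGroup.ker_mk' U).ge.trans (ker_le_comap f M)
  have hfU : ∀ g : G, f g = 1 ↔ g ∈ U := fun g => QuotientGroup.eq_one_iff g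
  -- `x ∈ Wt` iff its image lies in the kernel on `M`
  have hWtf : Wt.map f = E₀.map f := by
    rw [hWt, Subgroup.map_sup, hfdef, QuotientGroup.map_mk'_self, bot_sup_eq]
  have hWt_iff : ∀ {g : G}, g ∈ Wt ↔ f g ∈ E₀.map f := fun {g} => by
    have hcm : (E₀.map f).comap f = Wt := by
      rw [comap_map_eq, hfdef, QuotientGroup.ker_mk', sup_comm]
    rw [← hcm, mem_comap]
  have hE₀c : ∀ e ∈ E₀.map f, ∀ m ∈ M, m * e = e * m := by
    rintro _ ⟨e, he, rfl⟩ m hm
    exact mem_centralizer_iff.1 (mem_comap.1 he.2) m hm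
  have hE₀A : E₀.map f ≤ Ab := map_mono inf_le_left
  have hME : M ⊓ E₀.map f = ⊥ := by
    obtain ⟨m, hm⟩ := IsPGroup.iff_card.1 (hAbp.to_le hE₀A)
    exact Cfsg.Lib.Coprime.inf_eq_bot_of_coprime (hm ▸ hMc.pow_right m)
  have hRtf : Rt.map f = M ⊔ E₀.map f := by
    rw [hRt, Subgroup.map_sup, hR₀, map_comap_eq_self_of_surjective hfs]
  haveI : IsMulCommutative (E₀.map f) := le_centralizer_iff_isMulCommutative.1
    (hE₀A.trans ((le_centralizer_iff_isMulCommutative.2 inferInstance).trans (centralizer_le hE₀A)))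
  haveI : IsMulCommutative ↥(M ⊔ E₀.map f) := isMulCommutative_sup
    (fun m hm => mem_centralizer_iff.2 fun e he => (hE₀c e he m hm).symm)
  have hdec : ∀ r ∈ Rt, ∃ m ∈ M, ∃ e ∈ E₀.map f, f r = m * e := fun r hr => by
    have hmem : f r ∈ M ⊔ E₀.map f := hRtf ▸ mem_map_of_mem f hr
    have hn : E₀.map f ≤ normalizer (M : Set (G ⧸ U)) := hE₀A.trans hMn
    rw [← SetLike.mem_coe, Subgroup.coe_mul_of_right_le_normalizer_left M (E₀.map f) hn] at hmem
    obtain ⟨m, hm, e, he, h⟩ := hmem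
    exact ⟨m, hm, e, he, h.symm⟩
  have hWR : Wt ≤ Rt := sup_le (hUR.trans le_sup_left) le_sup_right
  -- normality
  have hLnW : L ≤ normalizer (Wt : Set G) := by
    intro g hg
    refine mem_normalizer_iff.2 fun w => ?_
    have hgn : f g ∈ normalizer (E₀.map f : Set (G ⧸ U)) := by
      have hmem : f g ∈ (M ⊔ E₀.map f) ⊔ Ab := by
        rw [← hRtf, hAbdef, ← Subgroup.map_sup, ← hL]
        exact mem_map_of_mem f hg
      refine (sup_le (sup_le ?_ ?_) ?_ : (M ⊔ E₀.map f) ⊔ Ab ≤ normalizer (E₀.map f : Set (G ⧸ U))) hmem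
      · intro m hm
        refine Subgroup.centralizer_le_normalizer _ (mem_centralizer_iff.2 fun e he => ?_)
        exact (hE₀c e he m hm).symm
      · exact le_normalizer
      · intro a ha
        refine Subgroup.centralizer_le_normalizer _ (mem_centralizer_iff.2 fun e he => ?_)
        exact congrArg Subtype.val (mul_comm' (⟨e, hE₀A he⟩ : Ab) ⟨a, ha⟩)
    rw [hWt_iff, hWt_iff, map_mul, map_mul, map_inv]
    exact mem_normalizer_iff.1 hgn (f w)
  have hLnR : L ≤ normalizer (Rt : Set G) := by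
    intro g hg
    refine mem_normalizer_iff.2 fun r => ?_
    have hRiff : ∀ {x : G}, x ∈ Rt ↔ f x ∈ M ⊔ E₀.map f := fun {x} => by
      have : (Rt.map f).comap f = Rt := comap_map_eq_self
        ((QuotientGroup.ker_mk' U).le.trans (hUR.trans le_sup_left))
      rw [← hRtf, ← mem_comap, this]
    have hgn : f g ∈ normalizer ((M ⊔ E₀.map f : Subgroup (G ⧸ U)) : Set (G ⧸ U)) := by
      have hmem : f g ∈ (M ⊔ E₀.map f) ⊔ Ab := by
        rw [← hRtf, hAbdef, ← Subgroup.map_sup, ← hL]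
        exact mem_map_of_mem f hg
      refine (sup_le le_normalizer ?_ :
        (M ⊔ E₀.map f) ⊔ Ab ≤ normalizer ((M ⊔ E₀.map f : Subgroup (G ⧸ U)) : Set (G ⧸ U))) hmem
      exact Cfsg.Lib.Coprime.le_normalizer_sup hMn (fun a ha => Subgroup.centralizer_le_normalizer _
        (mem_centralizer_iff.2 fun e he =>
          congrArg Subtype.val (mul_comm' (⟨e, hE₀A he⟩ : Ab) ⟨a, ha⟩)))
    rw [hRiff, hRiff, map_mul, map_mul, map_inv]
    exact mem_normalizer_iff.1 hgn (f r)
  have hWL : Wt ≤ L := hWR.trans le_sup_left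
  have hAL : A ≤ L := le_sup_right
  haveI : (Wt.subgroupOf L).Normal := normal_subgroupOf_of_le_normalizer hLnW
  haveI : (Rt.subgroupOf L).Normal := normal_subgroupOf_of_le_normalizer hLnR
  have hpW : IsPGroup p Wt := hP.to_le (sup_le hUP (inf_le_left.trans hAP))
  have hWtA : ∀ x : L, x ∈ Wt.subgroupOf L ⊔ A.subgroupOf L → (x : G) ∈ P := fun x hx => by
    have hle : Wt.subgroupOf L ⊔ A.subgroupOf L ≤ P.subgroupOf L :=
      sup_le (comap_mono (sup_le hUP (inf_le_left.trans hAP))) (comap_mono hAP)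
    exact hle hx
  refine not_frob (p := p) (k := k) (W := Wt.subgroupOf L) (A := A.subgroupOf L)
    (R := Rt.subgroupOf L) (c := ⟨c, hAL hc⟩)
    { five := hp5, kpos := hk1, pW := hpW.comap_subtype, nW := inferInstance,
      nR := inferInstance, cA := mem_subgroupOf.2 hc, WR := comap_mono hWR,
      cW := ?_, max := ⟨le_sup_right, ?_, ?_⟩, Agen := ?_, corder := ?_, Rab := ?_, Rcop := ?_,
      Rne := ?_, gen := ?_, fpf := ?_ }
  · intro x hx
    refine mem_subgroupOf.2 ((le_sup_left : U ≤ Wt) (hCU (mem_centralizer_iff.2 fun u hu => ?_)))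
    have := mem_centralizer_iff.1 hx ⟨u, hWL ((le_sup_left : U ≤ Wt) hu)⟩
      (mem_subgroupOf.2 ((le_sup_left : U ≤ Wt) hu))
    exact congrArg Subtype.val this
  · exact ⟨⟨fun a b => Subtype.ext (Subtype.ext
      (show ((a : L) : G) * ((b : L) : G) = ((b : L) : G) * ((a : L) : G) from congrArg Subtype.val
      (mul_comm' (⟨((a : L) : G), a.2⟩ : A) ⟨((b : L) : G), b.2⟩)))⟩⟩
  · intro F hF hFc
    haveI := hFc
    have h1 := hAmax (F.map L.subtype) (by rintro _ ⟨x, hx, rfl⟩; exact hWtA x (hF hx))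
      (map_isMulCommutative F _)
    rwa [card_subtype, ← Nat.card_congr (subgroupOfEquivOfLe hAL).toEquiv] at h1
  · intro a ha
    obtain ⟨j, hj⟩ := hgen (f a) (mem_map_of_mem f ha)
    refine ⟨j, mem_subgroupOf.2 ?_⟩
    refine (le_sup_right : E₀ ≤ Wt) ⟨A.mul_mem (A.inv_mem (A.pow_mem hc j)) ha, ?_⟩
    show (c ^ j)⁻¹ * ((a : L) : G) ∈ _
    refine mem_comap.2 ?_
    rw [map_mul, map_inv, map_pow]
    exact hj
  · intro j
    rw [mem_subgroupOf, SubmonoidClass.coe_pow]
    constructor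
    · intro hmem
      refine (hord j).1 (mem_centralizer_iff.2 fun m hm => ?_)
      rw [← map_pow]
      exact hE₀c _ (hWt_iff.1 hmem) m hm
    · intro hdvd
      refine (le_sup_right : E₀ ≤ Wt) ⟨A.pow_mem hc j, ?_⟩
      show c ^ j ∈ (centralizer (M : Set (G ⧸ U))).comap f
      rw [mem_comap, map_pow]
      exact (hord j).2 hdvd
  · refine commutator_le.2 fun a ha b hb => mem_subgroupOf.2 ((le_sup_left : U ≤ Wt) ((hfU _).1 ?_))
    rw [mem_subgroupOf] at ha hb
    rw [show ((⁅a, b⁆ : L) : G) = ⁅(a : G), (b : G)⁆ from rfl, map_commutatorElement,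
      commutatorElement_eq_one_iff_mul_comm]
    have ha' : f (a : G) ∈ M ⊔ E₀.map f := hRtf ▸ mem_map_of_mem f ha
    have hb' : f (b : G) ∈ M ⊔ E₀.map f := hRtf ▸ mem_map_of_mem f hb
    exact congrArg Subtype.val (mul_comm' (⟨_, ha'⟩ : ↥(M ⊔ E₀.map f)) ⟨_, hb'⟩)
  · intro r hr
    obtain ⟨m, hm, e, he, hre⟩ := hdec r (mem_subgroupOf.1 hr)
    refine ⟨Nat.card M, hMc, mem_subgroupOf.2 (hWt_iff.2 ?_)⟩
    rw [SubmonoidClass.coe_pow, map_pow, hre, (show Commute m e from hE₀c e he m hm).mul_pow,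
      show m ^ Nat.card M = 1 from congrArg Subtype.val (pow_card_eq_one' (x := (⟨m, hm⟩ : M))),
      one_mul]
    exact pow_mem he _
  · intro hle
    refine hMnt ?_
    have hM1 : M = ⊥ := le_bot_iff.1 fun m hm => by
      obtain ⟨r, rfl⟩ := hfs m
      have hrR : r ∈ Rt := (le_sup_left : R₀ ≤ Rt) (mem_comap.2 hm)
      exact hME.le ⟨hm, hWt_iff.1 (mem_subgroupOf.1 (hle (x := ⟨r, le_sup_left (b := A) hrR⟩)
        (mem_subgroupOf.2 hrR)))⟩
    intro a _
    refine mem_centralizer_iff.2 fun m hm => ?_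
    rw [hM1] at hm
    rw [mem_bot.1 hm, one_mul, mul_one]
  · rw [← subgroupOf_sup le_sup_left hAL]
    exact subgroupOf_self L
  · intro r hr j hmem
    obtain ⟨m, hm, e, he, hre⟩ := hdec r (mem_subgroupOf.1 hr)
    rw [mem_subgroupOf] at hmem
    change ⁅c ^ j, (r : G)⁆ ∈ Wt at hmem
    have h1 := hWt_iff.1 hmem
    rw [map_commutatorElement, map_pow, hre] at h1
    have hcj : f c ^ j ∈ Ab := Ab.pow_mem hgb j
    have hce : f c ^ j * e = e * f c ^ j :=
      congrArg Subtype.val (mul_comm' (⟨_, hcj⟩ : Ab) ⟨e, hE₀A he⟩)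
    have h2 : ⁅f c ^ j, m * e⁆ = ⁅f c ^ j, m⁆ := by
      rw [Cfsg.Lib.PGroups.mul_right_commutator,
        commutatorElement_eq_one_iff_mul_comm.2 hce, mul_one, mul_inv_cancel, mul_one]
    rw [h2] at h1
    have h3 : ⁅f c ^ j, m⁆ ∈ M := by
      rw [commutatorElement_def]
      exact M.mul_mem ((mem_normalizer_iff.1 (hMn hcj) m).1 hm) (M.inv_mem hm)
    have h4 : ⁅f c ^ j, m⁆ ∈ (⊥ : Subgroup (G ⧸ U)) := hME ▸ ⟨h3, h1⟩
    rcases hfpf j m hm (commutatorElement_eq_one_iff_mul_comm.1 (mem_bot.1 h4)) with h5 | h5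
    · exact Or.inl ((hord j).1 h5)
    · refine Or.inr (mem_subgroupOf.2 (hWt_iff.2 ?_))
      rw [hre, h5, one_mul]
      exact he

theorem hasNormalPComplement_of_J (hp5 : 5 ≤ p) (n : ℕ) :
    ∀ (G : Type u) [Group G] [Finite G], Nat.card G = n → ∀ P : Sylow p G,
      HypJ p (P : Subgroup G) → Cfsg.HasNormalPComplement p G := by
  induction n using Nat.strong_induction_on with
  | _ n ih =>
  intro G _ _ hG P hP
  by_contra hno
  have ihsub : ∀ (H : Subgroup G), H ≠ ⊤ → ∀ S : Sylow p H, HypJ p (S : Subgroup H) →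
      Cfsg.HasNormalPComplement p H := fun H hH S hS =>
    ih (Nat.card H) (hG ▸ lt_of_le_of_ne (card_le_card_group H)
      (fun h => hH (H.eq_top_of_card_eq h))) H rfl S hS
  obtain ⟨U₁, hU₁, hU₁ne, hU₁no⟩ : ∃ U : Subgroup G, IsPGroup p U ∧ U ≠ ⊥ ∧
      ¬ Cfsg.HasNormalPComplement p ↥(normalizer (U : Set G)) := by
    by_contra h
    push Not at h
    exact hno (Cfsg.Lib.Transfer.hasNormalPComplement_of_normalizers h)
  let μ : Subgroup G → ℕ := fun U => pp p (normalizer (U : Set G)) * (Nat.card G + 1) + Nat.card U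
  obtain ⟨U, ⟨hU, hUne, hUno⟩, hUmax⟩ := Set.exists_max_image
    {U : Subgroup G | IsPGroup p U ∧ U ≠ ⊥ ∧
      ¬ Cfsg.HasNormalPComplement p ↥(normalizer (U : Set G))} μ (Set.toFinite _)
    ⟨U₁, hU₁, hU₁ne, hU₁no⟩
  have hbig : ∀ Q : Subgroup G, IsPGroup p Q → Q ≠ ⊥ →
      (pp p (normalizer (U : Set G)) < pp p (normalizer (Q : Set G)) ∨
        (pp p (normalizer (U : Set G)) ≤ pp p (normalizer (Q : Set G)) ∧
          Nat.card U < Nat.card Q)) →
      Cfsg.HasNormalPComplement p ↥(normalizer (Q : Set G)) := by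
    intro Q hQ hQne h
    by_contra hQno
    have hle : μ Q ≤ μ U := hUmax Q ⟨hQ, hQne, hQno⟩
    have hUG : Nat.card U ≤ Nat.card G := card_le_card_group U
    simp only [μ] at hle
    rcases h with h | ⟨h, h'⟩
    · have := Nat.mul_le_mul_right (Nat.card G + 1) h
      rw [Nat.succ_mul] at this
      omega
    · have := Nat.mul_le_mul_right (Nat.card G + 1) h
      omega
  have hUnorm : normalizer (U : Set G) = ⊤ := by
    by_contra hN
    set N := normalizer (U : Set G) with hNdef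
    obtain ⟨S₀⟩ : Nonempty (Sylow p N) := inferInstance
    set S := (S₀ : Subgroup N).map N.subtype with hSdef
    have hS : IsPGroup p S := S₀.2.map _
    obtain ⟨P', hP'⟩ := hS.exists_le_sylow
    have hH := hypJ_sylow hP P'
    have hUS : U ≤ S := by
      haveI : (U.subgroupOf N).Normal := normal_in_normalizer
      intro x hx
      exact ⟨⟨x, le_normalizer hx⟩,
        le_sylow_of_normal (U := U.subgroupOf N) hU.comap_subtype S₀ hx, rfl⟩
    refine hUno (ihsub N hN S₀ (hypJ_of_hom N.subtype_injective ?_))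
    rcases eq_or_lt_of_le hP' with h | h
    · rw [← hSdef, h]; exact hH
    have hSne : S ≠ ⊥ := fun h' => hUne (le_bot_iff.mp (h' ▸ hUS))
    set S' := (P' : Subgroup G) ⊓ normalizer (S : Set G) with hS'
    have hlt : Nat.card S < Nat.card S' := lt_of_not_ge fun hle =>
      (Cfsg.Lib.Transfer.lt_inf_normalizer_of_lt P' h).ne
        (eq_of_le_of_card_ge (Cfsg.Lib.Transfer.lt_inf_normalizer_of_lt P' h).le hle)
    have hppS : pp p N = Nat.card S := by
      rw [hSdef, card_subtype, S₀.card_eq_multiplicity]; rfl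
    have hcompl : ∀ Q : Subgroup G, Q ≤ S → Q ≠ ⊥ →
        normalizer (S : Set G) ≤ normalizer (Q : Set G) →
        Cfsg.HasNormalPComplement p ↥(normalizer (Q : Set G)) := fun Q hQS hQne hNQ =>
      hbig Q (hS.to_le hQS) hQne (Or.inl (by
        rw [hppS]
        exact hlt.trans_le (card_le_pp (P'.2.to_le inf_le_left) (inf_le_right.trans hNQ))))
    exact hcompl _ (J_le S) (J_ne_bot hS hSne) (normalizer_le_normalizer_J S)
  haveI hUn : U.Normal := normalizer_eq_top_iff.mp hUnorm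
  have hUP : U ≤ (P : Subgroup G) := le_sylow_of_normal hU P
  have hbig' : ∀ Q : Subgroup G, IsPGroup p Q → U < Q →
      (P : Subgroup G) ≤ normalizer (Q : Set G) →
      Cfsg.HasNormalPComplement p ↥(normalizer (Q : Set G)) := fun Q hQ hUQ hPQ =>
    hbig Q hQ (ne_bot_of_gt hUQ) (Or.inr ⟨by
      refine le_trans (pp_le _) (le_trans (le_of_eq P.card_eq_multiplicity.symm)
        (card_le_pp P.2 hPQ)),
      lt_of_not_ge fun hle => hUQ.ne (eq_of_le_of_card_ge hUQ.le hle)⟩)
  have hmax : ∀ Q : Subgroup G, Q.Normal → IsPGroup p Q → U ≤ Q → Q = U := by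
    intro Q hQn hQ hUQ
    by_contra hne
    refine hno ?_
    have h := hbig' Q hQ (lt_of_le_of_ne hUQ (Ne.symm hne)) (by rw [normalizer_eq_top]; exact le_top)
    rw [normalizer_eq_top] at h
    exact (Cfsg.Lib.Transfer.hasNormalPComplement_congr topEquiv).mp h
  have hJtop : normalizer (Cfsg.thompsonSubgroupAOf (P : Subgroup G) : Set G) ≠ ⊤ := fun h => by
    have h1 : Cfsg.HasNormalPComplement p ↥(normalizer (Cfsg.thompsonSubgroupAOf (P : Subgroup G) : Set G)) := hP
    rw [h] at h1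
    exact hno ((Cfsg.Lib.Transfer.hasNormalPComplement_congr topEquiv).mp h1)
  have hUPne : U ≠ (P : Subgroup G) := fun h => hJtop (top_le_iff.mp
    (hUnorm.ge.trans (by rw [h]; exact normalizer_le_normalizer_J _)))
  -- the quotient by `U` has a normal p-complement
  set f := QuotientGroup.mk' U with hfdef
  have hfs : Function.Surjective f := QuotientGroup.mk'_surjective U
  let P' : Sylow p (G ⧸ U) := P.mapSurjective hfs
  have hP'e : (P' : Subgroup (G ⧸ U)) = (P : Subgroup G).map f := P.coe_mapSurjective hfs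
  have hcomapP : ((P : Subgroup G).map f).comap f = P :=
    comap_map_eq_self (by rwa [hfdef, QuotientGroup.ker_mk'])
  have hP'ne : (P' : Subgroup (G ⧸ U)) ≠ ⊥ := fun h => hUPne (by
    rw [← hcomapP, ← hP'e, h, MonoidHom.comap_bot, hfdef, QuotientGroup.ker_mk'])
  have hquot : ∀ Q : Subgroup (G ⧸ U), Q ≠ ⊥ → Q ≤ P' →
      (P' : Subgroup (G ⧸ U)) ≤ normalizer (Q : Set (G ⧸ U)) →
      Cfsg.HasNormalPComplement p ↥(normalizer (Q : Set (G ⧸ U))) := by
    intro Q hQne hQP hPQ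
    have hX1 : Q.comap f ≤ (P : Subgroup G) := by
      rw [← hcomapP, ← hP'e]; exact comap_mono hQP
    have hUX : U < Q.comap f := by
      refine lt_of_le_of_ne ?_ fun h => hQne ?_
      · exact (QuotientGroup.ker_mk' U).ge.trans (ker_le_comap f Q)
      · rw [← map_comap_eq_self_of_surjective hfs Q, ← h, hfdef, QuotientGroup.map_mk'_self]
    have hnX : normalizer ((Q.comap f : Subgroup G) : Set G) =
        (normalizer (Q : Set (G ⧸ U))).comap f :=
      (comap_normalizer_eq_of_surjective Q hfs).symm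
    have h := hbig' _ (P.2.to_le hX1) hUX (by
      rw [hnX, ← map_le_iff_le_comap, ← hP'e]; exact hPQ)
    refine Cfsg.Lib.Transfer.hasNormalPComplement_of_surjective
      (MonoidHom.mk' (fun x => (⟨f x.1, mem_comap.mp (hnX ▸ x.2)⟩ : normalizer (Q : Set (G ⧸ U))))
        fun a b => Subtype.ext (map_mul f _ _)) ?_ h
    · rintro ⟨y, hy⟩
      obtain ⟨x, rfl⟩ := hfs y
      refine ⟨⟨x, ?_⟩, rfl⟩
      rw [hnX]; exact hy
  have hlt : Nat.card (G ⧸ U) < n := by
    rw [← hG, card_eq_card_quotient_mul_card_subgroup U]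
    exact lt_mul_of_one_lt_right Nat.card_pos ((one_lt_card_iff_ne_bot _).mpr hUne)
  obtain ⟨K₀, hK₀n, hK₀c, k, hK₀k⟩ := Cfsg.Lib.Transfer.hasNormalPComplement_iff.mp
    (ih _ hlt (G ⧸ U) rfl P'
      (hquot _ (J_ne_bot P'.2 hP'ne) (J_le _)
          (le_normalizer.trans (normalizer_le_normalizer_J _))))
  haveI := hK₀n
  -- no nontrivial normal `p'`-subgroup
  have hO : ∀ M : Subgroup G, M.Normal → (Nat.card M).Coprime p → M = ⊥ := by
    intro M hMn hMc
    by_contra hMne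
    refine hno ?_
    set g := QuotientGroup.mk' M with hgdef
    have hgs : Function.Surjective g := QuotientGroup.mk'_surjective M
    let PM : Sylow p (G ⧸ M) := P.mapSurjective hgs
    have hPMe : (PM : Subgroup (G ⧸ M)) = (P : Subgroup G).map g := P.coe_mapSurjective hgs
    have hinf : ∀ x : G, x ∈ (P : Subgroup G) → x ∈ M → x = 1 := fun x h1 h2 => by
      obtain ⟨j, hj⟩ := IsPGroup.iff_orderOf.mp P.2 ⟨x, h1⟩
      rw [Subgroup.orderOf_mk] at hj
      refine orderOf_eq_one_iff.mp (Nat.eq_one_of_dvd_coprimes (hMc.pow_right j) ?_ hj.dvd)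
      rw [← Subgroup.orderOf_mk x h2]; exact orderOf_dvd_natCard _
    have hinj : Set.InjOn g (P : Subgroup G) := fun x hx y hy hxy => by
      rw [hgdef, QuotientGroup.mk'_apply, QuotientGroup.mk'_apply, QuotientGroup.eq] at hxy
      exact inv_mul_eq_one.mp (hinf _ (mul_mem (inv_mem hx) hy) hxy)
    have hN : ∀ Q : Subgroup G, Q ≤ (P : Subgroup G) →
        normalizer (Q.map g : Set (G ⧸ M)) ≤ (normalizer (Q : Set G)).map g := by
      intro Q hQP x hx
      obtain ⟨x, rfl⟩ := hgs x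
      obtain ⟨j, hj⟩ := IsPGroup.iff_card.mp (P.2.to_le hQP)
      have hle : Cfsg.Lib.Coprime.conjMap x Q ≤ M ⊔ Q := by
        rintro _ ⟨y, hy, rfl⟩
        have : g (x * y * x⁻¹) ∈ Q.map g := by
          rw [map_mul, map_mul, map_inv]
          exact (mem_normalizer_iff.mp hx _).mp (mem_map_of_mem g hy)
        rw [← mem_comap, comap_map_eq, hgdef, QuotientGroup.ker_mk', sup_comm] at this
        exact this
      obtain ⟨m, hm, hmQ⟩ := Cfsg.Lib.Coprime.exists_conj_eq_of_coprime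
        (le_normalizer_of_normal) (by rw [hj]; exact hMc.pow_right j)
        (Or.inr (by haveI := (P.2.to_le hQP).isNilpotent; infer_instance))
        hle (Cfsg.Lib.Coprime.card_conjMap x Q)
      refine ⟨m⁻¹ * x, Cfsg.Lib.Coprime.conjMap_eq_self_iff.mp ?_, ?_⟩
      · rw [← Cfsg.Lib.Coprime.conjMap_mul, hmQ]
        exact Cfsg.Lib.Coprime.conjMap_inv_conjMap _ _
      · rw [map_mul, map_inv, hgdef, QuotientGroup.mk'_apply,
          (QuotientGroup.eq_one_iff m).mpr hm, inv_one, one_mul]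
    have hJ := map_J hinj
    have hlt' : Nat.card (G ⧸ M) < n := by
      rw [← hG, card_eq_card_quotient_mul_card_subgroup M]
      exact lt_mul_of_one_lt_right Nat.card_pos ((one_lt_card_iff_ne_bot _).mpr hMne)
    have himg : ∀ H : Subgroup G, Cfsg.HasNormalPComplement p H →
        Cfsg.HasNormalPComplement p ↥(H.map g) := fun H hH =>
      Cfsg.Lib.Transfer.hasNormalPComplement_of_surjective (g.subgroupMap H)
        (g.subgroupMap_surjective H) hH
    obtain ⟨L, hLn, hLc, l, hLl⟩ := Cfsg.Lib.Transfer.hasNormalPComplement_iff.mp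
      (ih _ hlt' (G ⧸ M) rfl PM (by
        show Cfsg.HasNormalPComplement p
          ↥(normalizer (Cfsg.thompsonSubgroupAOf (PM : Subgroup (G ⧸ M)) : Set (G ⧸ M)))
        refine hasNormalPComplement_of_le ?_ (himg _ hP)
        rw [hPMe, ← hJ]
        exact hN _ (J_le _)))
    refine Cfsg.Lib.Transfer.hasNormalPComplement_iff.mpr
      ⟨L.comap g, hLn.comap g, ?_, l, ?_⟩
    · rw [hgdef, Cfsg.Lib.Coprime.card_comap_mk']
      exact Nat.Coprime.mul_left hMc hLc
    · rw [index_comap_of_surjective _ hgs, hLl]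
  -- `U` is self-centralising
  have hCU : centralizer (U : Set G) ≤ U := by
    set C := centralizer (U : Set G) with hCdef
    set D := C ⊓ K₀.comap f with hDdef
    have hDp : ∀ x ∈ D, (orderOf x).Coprime p → x = 1 := by
      obtain ⟨N, hNn, hNc, j, hNj⟩ := Cfsg.Lib.Transfer.hasNormalPComplement_iff.mp
        (Cfsg.Lib.Transfer.hasNormalPComplement_of_frobenius (G := D) (p := p) fun Q hQ y _ _ => by
          intro q hq
          have hqU : (q : G) ∈ U := by
            have hqK : f (q : G) ∈ K₀ := q.2.2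
            obtain ⟨i, hi⟩ := IsPGroup.iff_orderOf.mp hQ ⟨q, hq⟩
            rw [Subgroup.orderOf_mk] at hi
            have h1 : orderOf (f (q : G)) ∣ p ^ i := by
              rw [← hi, ← Subgroup.orderOf_coe]; exact orderOf_map_dvd f _
            have h2 : orderOf (f (q : G)) ∣ Nat.card K₀ := by
              rw [← Subgroup.orderOf_mk _ hqK]; exact orderOf_dvd_natCard _
            have h3 := orderOf_eq_one_iff.mp
              (Nat.eq_one_of_dvd_coprimes (hK₀c.pow_right i) h2 h1)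
            rwa [hfdef, QuotientGroup.mk'_apply, QuotientGroup.eq_one_iff] at h3
          exact Subtype.ext (mem_centralizer_iff.mp y.2.1 _ hqU))
      haveI := hNn
      haveI : D.Normal := inferInstance
      have hNn' : (N.map D.subtype).Normal := ⟨fun x hx g => by
        obtain ⟨y, hy, rfl⟩ := mem_map.mp hx
        refine mem_map.mpr ⟨MulAut.conjNormal g y, ?_, MulAut.conjNormal_apply g y⟩
        rw [Cfsg.Lib.Transfer.mem_iff_coprime_orderOf hNc hNj, MulEquiv.orderOf_eq]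
        exact (Cfsg.Lib.Transfer.mem_iff_coprime_orderOf hNc hNj y).mp hy⟩
      have hNbot := hO _ hNn' (by rwa [card_subtype])
      intro x hx hxc
      have : x ∈ N.map D.subtype := ⟨⟨x, hx⟩, by
        rw [SetLike.mem_coe, Cfsg.Lib.Transfer.mem_iff_coprime_orderOf hNc hNj, Subgroup.orderOf_mk]
        exact hxc, rfl⟩
      rwa [hNbot, mem_bot] at this
    haveI : C.Normal := inferInstance
    have hC : IsPGroup p C := by
      intro c
      obtain ⟨a, b, ha, hb, hab, ⟨i, hi⟩, hcop⟩ := Cfsg.Lib.Transfer.exists_pPart p (c : G)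
      have hbC : b ∈ C := zpowers_le.mpr c.2 hb
      have hbK : f b ∈ K₀ := (Cfsg.Lib.Transfer.mem_iff_coprime_orderOf hK₀c hK₀k _).mpr
        (hcop.coprime_dvd_left (orderOf_map_dvd f b))
      have hb1 := hDp b ⟨hbC, hbK⟩ hcop
      refine ⟨i, Subtype.ext ?_⟩
      rw [SubmonoidClass.coe_pow, OneMemClass.coe_one, ← hab, hb1, mul_one, ← hi,
        pow_orderOf_eq_one]
    exact le_sup_right.trans (hmax (U ⊔ C) inferInstance (hU.to_sup_of_normal_left hC) le_sup_left).le
  -- irreducibility of the complement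
  have hmin : ∀ H₀ : Subgroup (G ⧸ U), H₀ ≤ K₀ →
      (P' : Subgroup (G ⧸ U)) ≤ normalizer (H₀ : Set (G ⧸ U)) → H₀ ≠ K₀ → H₀ = ⊥ := by
    intro H₀ hH hPH hne
    set H := (H₀ ⊔ P').comap f with hHdef
    obtain ⟨m, hm⟩ := IsPGroup.iff_card.mp P'.2
    have hH₀c : (Nat.card H₀).Coprime p := hK₀c.coprime_dvd_left (card_dvd_of_le hH)
    have hHtop : H ≠ ⊤ := fun h => hne (by
      have h1 : H₀ ⊔ (P' : Subgroup (G ⧸ U)) = ⊤ := by
        rw [← map_comap_eq_self_of_surjective hfs (H₀ ⊔ (P' : Subgroup (G ⧸ U))), ← hHdef, h,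
          map_top_of_surjective f hfs]
      have h2 := Cfsg.Lib.Coprime.card_sup_of_inf_eq_bot hPH
        (Cfsg.Lib.Coprime.inf_eq_bot_of_coprime (by rw [hm]; exact hH₀c.pow_right m))
      rw [h1, card_top,
        ← (Cfsg.Lib.Transfer.isComplement'_sylow_of_coprime_index hK₀c hK₀k P').card_mul] at h2
      exact eq_of_le_of_card_ge hH (Nat.eq_of_mul_eq_mul_right Nat.card_pos h2).le)
    have hPH' : (P : Subgroup G) ≤ H := by
      rw [← hcomapP, ← hP'e]; exact comap_mono le_sup_right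
    obtain ⟨T, hT⟩ : ∃ T : Sylow p H, (T : Subgroup H) = (P : Subgroup G).subgroupOf H :=
      ⟨P.subtype hPH', rfl⟩
    have hHc := ihsub H hHtop T (hypJ_of_hom H.subtype_injective (by
      rwa [hT, map_subgroupOf_eq_of_le hPH']))
    have hHp : IsPGroup p ↥(H.map f) :=
      (isPGroup_of_hasNormalPComplement hU hCU (hUP.trans hPH') hHc).map f
    obtain ⟨j, hj⟩ := IsPGroup.iff_card.mp hHp
    have hd : Nat.card H₀ ∣ p ^ j := by
      rw [← hj]
      refine card_dvd_of_le ?_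
      rw [hHdef, map_comap_eq_self_of_surjective hfs]
      exact le_sup_left
    exact card_eq_one.mp (Nat.eq_one_of_dvd_coprimes (hH₀c.pow_right j) dvd_rfl hd)
  have hK₀ne : K₀ ≠ ⊥ := fun h => hno (Cfsg.Lib.Transfer.hasNormalPComplement_of_isPGroup (by
    have h1 : Nat.card (G ⧸ U) = p ^ k := by rw [← hK₀k, h, index_bot]
    obtain ⟨m, hm⟩ := IsPGroup.iff_card.mp hU
    exact IsPGroup.of_card (n := k + m) (by
      rw [card_eq_card_quotient_mul_card_subgroup U, h1, hm, pow_add])))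
  obtain ⟨q, hq, hqd⟩ := Nat.exists_prime_and_dvd (fun h => hK₀ne (card_eq_one.mp h))
  haveI := Fact.mk hq
  obtain ⟨m, hm⟩ := IsPGroup.iff_card.mp P'.2
  obtain ⟨Q, hQ⟩ := Cfsg.Lib.Coprime.exists_invariant_sylow (A := (P' : Subgroup (G ⧸ U)))
    (K := K₀) le_normalizer_of_normal (by rw [hm]; exact (hK₀c.pow_right m).symm)
    (Or.inl (by haveI := P'.2.isNilpotent; infer_instance)) q
  have hQe : (Q : Subgroup K₀).map K₀.subtype = K₀ := by
    by_contra hne
    have hbot := hmin _ (map_subtype_le _) hQ hne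
    rw [map_eq_bot_iff_of_injective _ K₀.subtype_injective] at hbot
    exact Q.ne_bot_of_dvd_card hqd hbot
  have hK₀q : IsPGroup q K₀ := hQe ▸ Q.2.map _
  have hK₀comm : IsMulCommutative K₀ := by
    have hne := center_ne_bot hK₀q hK₀ne
    have h : K₀ ⊓ centralizer (K₀ : Set (G ⧸ U)) = K₀ := by
      by_contra hne'
      exact hne (hmin _ inf_le_left (by rw [normalizer_eq_top]; exact le_top) hne')
    exact ⟨⟨fun a b => Subtype.ext (mem_centralizer_iff.mp (inf_eq_left.mp h b.2) a a.2)⟩⟩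
  haveI := hK₀comm
  have hfaith : ∀ a ∈ (P : Subgroup G).map f, (∀ r ∈ K₀, a * r = r * a) → a = 1 := by
    intro a ha hcomm
    set C := (P' : Subgroup (G ⧸ U)) ⊓ centralizer (K₀ : Set (G ⧸ U)) with hCdef
    haveI : C.Normal := by
      refine normalizer_eq_top_iff.mp (top_le_iff.mp ?_)
      rw [← Cfsg.Lib.Transfer.sup_sylow_eq_top hK₀k P']
      refine sup_le ?_ (Cfsg.Lib.Coprime.le_normalizer_inf le_normalizer le_normalizer_of_normal)
      intro r hr
      refine Subgroup.centralizer_le_normalizer _ (mem_centralizer_iff.mpr fun c hc => ?_)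
      exact (mem_centralizer_iff.mp hc.2 r hr).symm
    have hCp : IsPGroup p C := P'.2.to_le inf_le_left
    have hX : C.comap f = U := by
      refine hmax _ inferInstance (P.2.to_le ?_) ((QuotientGroup.ker_mk' U).ge.trans (ker_le_comap f C))
      rw [← hcomapP, ← hP'e]; exact comap_mono inf_le_left
    obtain ⟨x, hx, rfl⟩ := mem_map.mp ha
    have hxU : x ∈ U := by
      rw [← hX, mem_comap]
      exact ⟨by rw [hP'e]; exact ha, mem_centralizer_iff.mpr fun r hr => (hcomm r hr).symm⟩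
    rwa [hfdef, QuotientGroup.mk'_apply, QuotientGroup.eq_one_iff]
  have hAll := maxAb_le_of_faithful hp5 hU P.2 hUP hCU hK₀c hfaith
  refine hJtop (top_le_iff.mp (hUnorm.ge.trans ?_))
  have hJU : Cfsg.thompsonSubgroupAOf (P : Subgroup G) = Cfsg.thompsonSubgroupAOf U := by
    rw [Cfsg.Lib.Fusion.thompsonAOf_eq, Cfsg.Lib.Fusion.thompsonAOf_eq]
    congr 1
    ext A
    refine ⟨fun hA => ⟨hAll A hA, hA.2.1, fun B hB => hA.2.2 B (hB.trans hUP)⟩,
      fun hA => ⟨hA.1.trans hUP, hA.2.1, fun B hB hBe => ?_⟩⟩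
    obtain ⟨A', hA'⟩ := Cfsg.Lib.Fusion.maxAb_nonempty (T := (P : Subgroup G))
    exact (hA'.2.2 B hB hBe).trans (hA.2.2 A' (hAll A' hA') hA'.2.1)
  rw [hJU]
  exact normalizer_le_normalizer_J U

end Cfsg.Lib.JAb
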