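import Mathlib
import Cfsg.Agent.Coprime.Sylow

/-!
Thompson–Timmesfeld replacement for abelian subgroups of largest order: the commutator subgroup
with an abelian normalised subgroup exactly makes up for the loss in the centraliser.
-/

set_option autoImplicit false
set_option linter.style.haveILetI false
set_option linter.unusedSectionVars false

namespace Cfsg.Lib.JAb

open Subgroup

variable {G : Type*} [Group G]

/-- `s⁻¹ (g s g⁻¹)`. -/
def dl (g s : G) : G := s⁻¹ * (g * s * g⁻¹)

theorem dl_mul (g h s : G) : dl (g * h) s = dl g s * (g * dl h s * g⁻¹) := by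
  simp only [dl]; group

theorem dl_one (s : G) : dl 1 s = 1 := by simp [dl]

theorem dl_eq_one_iff {g s : G} : dl g s = 1 ↔ g * s = s * g := by
  simp only [dl, inv_mul_eq_one]
  exact ⟨fun h => by conv_rhs => rw [h]
                     group,
    fun h => by rw [h, mul_inv_cancel_right]⟩

theorem isMulCommutative_sup {H K : Subgroup G} [IsMulCommutative H] [IsMulCommutative K]
    (h : H ≤ centralizer (K : Set G)) : IsMulCommutative ↥(H ⊔ K) := by
  have hH : H ≤ centralizer (H : Set G) := le_centralizer_iff_isMulCommutative.2 inferInstance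
  have hK : K ≤ centralizer (K : Set G) := le_centralizer_iff_isMulCommutative.2 inferInstance
  refine le_centralizer_iff_isMulCommutative.1 ?_
  exact sup_le (le_centralizer_iff.1 (sup_le hH (le_centralizer_iff.1 h)))
    (le_centralizer_iff.1 (sup_le h hK))

theorem card_sup_mul_card_inf_of_le_normalizer [Finite G] {H K : Subgroup G}
    (h : H ≤ normalizer (K : Set G)) :
    Nat.card H * Nat.card K = Nat.card ↥(H ⊔ K) * Nat.card ↥(H ⊓ K) := by
  rw [sup_comm, inf_comm, mul_comm]
  exact (Cfsg.Lib.Coprime.card_sup_mul_card_inf h).symm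

/-- `A` is an abelian subgroup of `P` of largest order. -/
structure IsMaxAb (P A : Subgroup G) : Prop where
  le : A ≤ P
  comm : IsMulCommutative A
  max : ∀ F : Subgroup G, F ≤ P → IsMulCommutative F → Nat.card F ≤ Nat.card A

variable [Finite G] {P A : Subgroup G}

/-- An abelian subgroup centralised by a part of `A` is small. -/
theorem IsMaxAb.card_le (hA : IsMaxAb P A) {C W : Subgroup G} (hC : C ≤ A) (hW : W ≤ P)
    [IsMulCommutative W] (hCW : C ≤ centralizer (W : Set G)) :
    Nat.card C * Nat.card W ≤ Nat.card A * Nat.card ↥(W ⊓ A) := by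
  haveI := hA.comm
  haveI : IsMulCommutative C :=
    le_centralizer_iff_isMulCommutative.1 (hC.trans
      ((le_centralizer_iff_isMulCommutative.2 hA.comm).trans (centralizer_le hC)))
  rw [card_sup_mul_card_inf_of_le_normalizer (hCW.trans (centralizer_le_normalizer _))]
  refine Nat.mul_le_mul (hA.max _ (sup_le (hC.trans hA.le) hW) (isMulCommutative_sup hCW)) ?_
  exact card_le_of_le (le_inf inf_le_right (inf_le_left.trans hC))

theorem IsMaxAb.apply_comm (hA : IsMaxAb P A) {a b : G} (ha : a ∈ A) (hb : b ∈ A) :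
    a * b = b * a := by
  haveI := hA.comm
  exact congrArg Subtype.val (mul_comm' (⟨a, ha⟩ : A) ⟨b, hb⟩)

/-- The single element case: the map `g ↦ [s, g]` gives `A/C_A(M) ≅ M/(M ∩ A)`. -/
theorem IsMaxAb.single (hA : IsMaxAb P A) {s : G} {M : Subgroup G} [IsMulCommutative M]
    (hM : M ≤ P) (hgen : ∀ g ∈ A, dl g s ∈ M) (hcl : M ≤ closure ((dl · s) '' A)) :
    Nat.card A * Nat.card ↥(M ⊓ A) ≤ Nat.card ↥(A ⊓ centralizer (M : Set G)) * Nat.card M ∧
      ∀ m ∈ M, ∃ g ∈ A, (dl g s)⁻¹ * m ∈ A := by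
  set C := A ⊓ centralizer (M : Set G) with hCdef
  have key : ∀ t ∈ A, dl t s ∈ A → t ∈ C := by
    intro t ht hd
    refine ⟨ht, mem_centralizer_iff.2 fun m hm => ?_⟩
    have : ∀ a ∈ A, t * dl a s * t⁻¹ = dl a s := by
      intro a ha
      have h1 := dl_mul t a s
      rw [hA.apply_comm ht ha, dl_mul] at h1
      have h2 : a * dl t s * a⁻¹ = dl t s := by rw [hA.apply_comm ha hd]; group
      have h3 : dl t s * dl a s = dl a s * dl t s :=
        congrArg Subtype.val (mul_comm' (⟨_, hgen t ht⟩ : M) ⟨_, hgen a ha⟩)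
      rw [h2, ← h3] at h1
      exact (mul_left_cancel h1).symm
    have hle : closure ((dl · s) '' A) ≤ centralizer ({t} : Set G) := by
      rw [closure_le]
      rintro _ ⟨a, ha, rfl⟩
      refine mem_centralizer_iff.2 fun x hx => ?_
      rw [Set.mem_singleton_iff] at hx
      subst hx
      show x * dl a s = dl a s * x
      conv_rhs => rw [← this a ha]
      group
    exact (mem_centralizer_iff.1 (hle (hcl hm)) t (Set.mem_singleton t)).symm
  let φ : A ⧸ C.subgroupOf A → M ⧸ (M ⊓ A).subgroupOf M := fun q =>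
    QuotientGroup.mk (⟨dl (q.out : G) s, hgen _ q.out.2⟩ : M)
  have hinj : Function.Injective φ := by
    intro q r hqr
    simp only [φ, QuotientGroup.eq] at hqr
    rw [mem_subgroupOf] at hqr
    have hd : (dl (q.out : G) s)⁻¹ * dl (r.out : G) s ∈ A := hqr.2
    set g : G := (q.out : G)
    set t : G := g⁻¹ * (r.out : G) with ht
    have htA : t ∈ A := A.mul_mem (A.inv_mem q.out.2) r.out.2
    have e := dl_mul g t s
    rw [ht, mul_inv_cancel_left, ← ht] at e
    rw [e, inv_mul_cancel_left] at hd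
    have hd' : dl t s ∈ A := by
      have := A.mul_mem (A.mul_mem (A.inv_mem q.out.2) hd) q.out.2
      simpa [g, mul_assoc] using this
    rw [← QuotientGroup.out_eq' q, ← QuotientGroup.out_eq' r, QuotientGroup.eq, mem_subgroupOf]
    exact key t htA hd'
  have hcard := Nat.card_le_card_of_injective φ hinj
  have e1 : Nat.card (A ⧸ C.subgroupOf A) * Nat.card C = Nat.card A := by
    rw [← Nat.card_congr (subgroupOfEquivOfLe (inf_le_left : C ≤ A)).toEquiv]
    exact (card_eq_card_quotient_mul_card_subgroup _).symm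
  have e2 : Nat.card (M ⧸ (M ⊓ A).subgroupOf M) * Nat.card ↥(M ⊓ A) = Nat.card M := by
    rw [← Nat.card_congr (subgroupOfEquivOfLe (inf_le_left : M ⊓ A ≤ M)).toEquiv]
    exact (card_eq_card_quotient_mul_card_subgroup _).symm
  have hle := hA.card_le (C := C) (W := M) inf_le_left hM inf_le_right
  refine ⟨?_, ?_⟩
  · calc Nat.card A * Nat.card ↥(M ⊓ A)
        = Nat.card (A ⧸ C.subgroupOf A) * Nat.card C * Nat.card ↥(M ⊓ A) := by rw [e1]
      _ ≤ Nat.card (M ⧸ (M ⊓ A).subgroupOf M) * Nat.card C * Nat.card ↥(M ⊓ A) := by gcongr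
      _ = Nat.card C * Nat.card M := by rw [← e2]; ring
  · have hge : Nat.card (M ⧸ (M ⊓ A).subgroupOf M) ≤ Nat.card (A ⧸ C.subgroupOf A) := by
      refine Nat.le_of_mul_le_mul_right ?_
        (Nat.mul_pos (Nat.card_pos (α := C)) (Nat.card_pos (α := ↥(M ⊓ A))))
      calc _ = Nat.card C * Nat.card M := by rw [← e2]; ring
        _ ≤ Nat.card A * Nat.card ↥(M ⊓ A) := hle
        _ = _ := by rw [← e1]; ring
    have hsurj := ((Nat.bijective_iff_injective_and_card φ).2 ⟨hinj, le_antisymm hcard hge⟩).2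
    intro m hm
    obtain ⟨q, hq⟩ := hsurj (QuotientGroup.mk ⟨m, hm⟩)
    simp only [φ, QuotientGroup.eq] at hq
    rw [mem_subgroupOf] at hq
    exact ⟨_, q.out.2, hq.2⟩

/-- **Timmesfeld's replacement** for `[Y, A]`. -/
theorem IsMaxAb.exists_tight (hA : IsMaxAb P A) {Y : Subgroup G} [IsMulCommutative Y] (hY : Y ≤ P)
    (hAY : A ≤ normalizer (Y : Set G)) :
    ∃ W : Subgroup G, W ≤ Y ∧ Y ⊓ A ≤ W ∧ (∀ y ∈ Y, ∀ g ∈ A, dl g y ∈ W) ∧
      Nat.card A * Nat.card ↥(Y ⊓ A) ≤
        Nat.card ↥(A ⊓ centralizer (W : Set G)) * Nat.card W := by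
  have hYY : Y ≤ centralizer (Y : Set G) := le_centralizer_iff_isMulCommutative.2 inferInstance
  have hcomm : ∀ {W : Subgroup G}, W ≤ Y → IsMulCommutative W := fun hW =>
    le_centralizer_iff_isMulCommutative.1 (hW.trans (hYY.trans (centralizer_le hW)))
  set D := Y ⊓ A with hD
  let T : Subgroup G → Prop := fun W => W ≤ Y ∧ D ≤ W ∧
    Nat.card A * Nat.card D ≤ Nat.card ↥(A ⊓ centralizer (W : Set G)) * Nat.card W
  have hAD : A ≤ centralizer (D : Set G) :=
    (le_centralizer_iff_isMulCommutative.2 hA.comm).trans (centralizer_le inf_le_right)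
  obtain ⟨W, hWmax⟩ := (Set.toFinite {W | T W}).exists_maximal
    ⟨D, inf_le_left, le_rfl, by rw [inf_eq_left.2 hAD]⟩
  obtain ⟨⟨hWY, hDW, hWt⟩, hmax⟩ := hWmax
  refine ⟨W, hWY, hDW, fun y hy g hg => ?_, hWt⟩
  set M := closure ((dl · y) '' A) with hMdef
  have hgen : ∀ g ∈ A, dl g y ∈ M := fun g hg => subset_closure ⟨g, hg, rfl⟩
  have hMY : M ≤ Y := by
    rw [hMdef, closure_le]
    rintro _ ⟨a, ha, rfl⟩
    exact Y.mul_mem (Y.inv_mem hy) ((mem_normalizer_iff.1 (hAY ha) y).1 hy)
  haveI := hcomm hMY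
  obtain ⟨hMt, -⟩ := hA.single (hMY.trans hY) hgen le_rfl
  -- the member generated by `y`
  have hW1Y : M ⊔ D ≤ Y := sup_le hMY inf_le_left
  have hC1 : A ⊓ centralizer (M : Set G) = A ⊓ centralizer ((M ⊔ D : Subgroup G) : Set G) := by
    refine le_antisymm (le_inf inf_le_left ?_) (inf_le_inf_left _ (centralizer_le (le_sup_left (a := M) (b := D))))
    exact le_centralizer_iff.1 (sup_le (le_centralizer_iff.1 inf_le_right)
      (le_centralizer_iff.1 (inf_le_left.trans hAD)))
  have hW1 : Nat.card A * Nat.card D ≤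
      Nat.card ↥(A ⊓ centralizer ((M ⊔ D : Subgroup G) : Set G)) * Nat.card ↥(M ⊔ D) := by
    have e := card_sup_mul_card_inf_of_le_normalizer (H := M) (K := D)
      (hMY.trans (hYY.trans ((centralizer_le inf_le_left).trans (centralizer_le_normalizer _))))
    have hMD : M ⊓ D = M ⊓ A := by rw [hD, ← inf_assoc, inf_eq_left.2 hMY]
    rw [hMD] at e
    rw [← hC1]
    refine Nat.le_of_mul_le_mul_right ?_ (Nat.card_pos (α := ↥(M ⊓ A)))
    calc _ = Nat.card A * Nat.card ↥(M ⊓ A) * Nat.card D := by ring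
      _ ≤ Nat.card ↥(A ⊓ centralizer (M : Set G)) * Nat.card M * Nat.card D := by gcongr
      _ = _ := by rw [mul_assoc, e]; ring
  suffices h : T (W ⊔ (M ⊔ D)) from (hmax h le_sup_left) (mem_sup_right (mem_sup_left (hgen g hg)))
  refine ⟨sup_le hWY hW1Y, hDW.trans le_sup_left, ?_⟩
  set W₁ := M ⊔ D
  set C := A ⊓ centralizer (W : Set G)
  set C₁ := A ⊓ centralizer (W₁ : Set G)
  have e12 : A ⊓ centralizer ((W ⊔ W₁ : Subgroup G) : Set G) = C ⊓ C₁ := by
    refine le_antisymm (le_inf (inf_le_inf_left _ (centralizer_le (le_sup_left (a := W) (b := W₁))))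
      (inf_le_inf_left _ (centralizer_le (le_sup_right (a := W) (b := W₁))))) (le_inf (inf_le_left.trans inf_le_left) ?_)
    exact le_centralizer_iff.1 (sup_le
      (le_centralizer_iff.1 (inf_le_left.trans inf_le_right))
      (le_centralizer_iff.1 (inf_le_right.trans inf_le_right)))
  have eW := card_sup_mul_card_inf_of_le_normalizer (H := W) (K := W₁)
    (hWY.trans (hYY.trans ((centralizer_le hW1Y).trans (centralizer_le_normalizer _))))
  have eC := card_sup_mul_card_inf_of_le_normalizer (H := C) (K := C₁)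
    (inf_le_left.trans ((le_centralizer_iff_isMulCommutative.2 hA.comm).trans
      ((centralizer_le inf_le_left).trans (centralizer_le_normalizer _))))
  haveI := hcomm (inf_le_left.trans hWY : W ⊓ W₁ ≤ Y)
  have hX := hA.card_le (C := C ⊔ C₁) (W := W ⊓ W₁) (sup_le inf_le_left inf_le_left)
    ((inf_le_left.trans hWY).trans hY) (sup_le (inf_le_right.trans (centralizer_le inf_le_left))
      (inf_le_right.trans (centralizer_le inf_le_right)))
  have hX' : Nat.card ↥(C ⊔ C₁) * Nat.card ↥(W ⊓ W₁) ≤ Nat.card A * Nat.card D :=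
    hX.trans (Nat.mul_le_mul_left _
      (card_le_of_le (inf_le_inf_right _ (inf_le_left.trans hWY))))
  rw [e12]
  refine Nat.le_of_mul_le_mul_right (c := Nat.card ↥(C ⊔ C₁) * Nat.card ↥(W ⊓ W₁)) ?_
    (Nat.mul_pos Nat.card_pos Nat.card_pos)
  calc Nat.card A * Nat.card D * (Nat.card ↥(C ⊔ C₁) * Nat.card ↥(W ⊓ W₁))
      ≤ Nat.card A * Nat.card D * (Nat.card A * Nat.card D) := by gcongr
    _ ≤ (Nat.card C * Nat.card W) * (Nat.card C₁ * Nat.card W₁) := Nat.mul_le_mul hWt hW1
    _ = (Nat.card C * Nat.card C₁) * (Nat.card W * Nat.card W₁) := by ring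
    _ = _ := by rw [eC, eW]; ring

end Cfsg.Lib.JAb
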